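import Groth.Agent.Etdl.H118.SecAff
import Groth.Agent.Etdl.H157.Div

/-!
# Sections of the invertible module of a cocycle over an affine open, as families of functions

`exists_coef`: given a cocycle `u` on an open cover `V` of `Z` which is `1` along a closed immersion `c : Yt ⟶ Z`, an
affine open `W` and a finite set of pairwise incomparable points of `W` off `Yt`, there are functions `f a` on
`W ⊓ V a` with `f a = u a b * f b`, `f a = 1` along `c`, not vanishing at the given points.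
-/

set_option autoImplicit false
universe u

open CategoryTheory CategoryTheory.Limits AlgebraicGeometry TopologicalSpace Opposite

namespace Groth.Agent.Etdl.H118.Coef

open Groth.Agent.Fdesc.LocGen Groth.Agent.Etdl.H118.SecAff

/-- A point off a closed immersion is separated from it by a function vanishing on the closed subscheme. -/
theorem exists_mem_ker {Z Yt : Scheme.{u}} (c : Yt ⟶ Z) [IsClosedImmersion c] {W : Z.Opens} (hW : IsAffineOpen W)
    {w : Z} (hw : w ∈ W) (hwc : w ∉ Set.range c) :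
    ∃ b ∈ RingHom.ker (c.app W).hom, w ∈ Z.basicOpen b := by
  have h1 : w ∉ c.ker.support := by rwa [H157.Div.mem_support_ker]
  rw [Scheme.IdealSheafData.mem_support_iff_of_mem (U := ⟨W, hW⟩) hw, Scheme.mem_zeroLocus_iff] at h1
  push Not at h1
  obtain ⟨b, hb, hwb⟩ := h1
  rw [Scheme.Hom.ker_apply] at hb
  exact ⟨b, hb, hwb⟩

theorem exists_coef {Z Yt : Scheme.{u}} (c : Yt ⟶ Z) [IsClosedImmersion c] {A : Type u} (V : A → Z.Opens)
    (cover : ∀ x : Z, ∃ a, x ∈ V a) (u : ∀ a b, Γ(Z, V a ⊓ V b)) (isUnit : ∀ a b, IsUnit (u a b))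
    (one : ∀ a b, (c.app (V a ⊓ V b)).hom (u a b) = 1)
    (cocycle : ∀ (a b d : A) (W : Z.Opens) (ha : W ≤ V a) (hb : W ≤ V b) (hd : W ≤ V d),
      ores (le_inf ha hb) (u a b) * ores (le_inf hb hd) (u b d) = ores (le_inf ha hd) (u a d))
    {W : Z.Opens} (hW : IsAffineOpen W) (S : Finset Z) (hSW : ∀ w ∈ S, w ∈ W) (hSc : ∀ w ∈ S, w ∉ Set.range c)
    (hS : ∀ w ∈ S, ∀ w' ∈ S, w' ⤳ w → w' = w) :
    ∃ f : ∀ a, Γ(Z, W ⊓ V a),
      (∀ (a b : A) (T : Z.Opens) (hT : T ≤ W) (ha : T ≤ V a) (hb : T ≤ V b),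
        ores (le_inf hT ha) (f a) = ores (le_inf ha hb) (u a b) * ores (le_inf hT hb) (f b)) ∧
      (∀ a, (c.app (W ⊓ V a)).hom (f a) = 1) ∧
      ∀ w ∈ S, ∀ a, w ∈ V a → w ∈ Z.basicOpen (f a) := by
  have hone : ∀ a, u a a = 1 := by
    intro a
    have h1 := cocycle a a a (V a ⊓ V a) inf_le_left inf_le_left inf_le_left
    have h2 : ores (le_inf inf_le_left inf_le_left : V a ⊓ V a ≤ V a ⊓ V a) (u a a) = u a a := ores_refl _
    rw [h2] at h1
    exact (isUnit a a).mul_left_cancel (by rw [h1, mul_one])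
  let g : ∀ a b, Γ(Z, V a ⊓ V b) := fun a b => ores (le_inf inf_le_right inf_le_left) (u b a)
  have hV : ⨆ a, V a = ⊤ := by
    rw [eq_top_iff]
    intro x _
    obtain ⟨a, ha⟩ := cover x
    exact Opens.mem_iSup.mpr ⟨a, ha⟩
  obtain ⟨L, e, he, hge⟩ := Picfga.LineCocycle.exists_of_cocycle V g
    (fun a => by
      simp only [g]
      rw [hone, map_one])
    (fun a b d T ha hb hd => by
      simp only [g, ores_ores]
      rw [← cocycle d b a T hd hb ha, mul_comm])
  have hgc : ∀ a b, (c.app (V a ⊓ V b)).hom (g a b) = 1 := by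
    intro a b
    simp only [g]
    rw [app_ores, one, map_one]
  have hinv : PicF.IsInvertible L := by
    rw [isInvertible_iff]
    intro x
    obtain ⟨a, ha⟩ := cover x
    exact ⟨V a, e a, ha, he a⟩
  have hq : Coh.IsQCoh L := Ega2.QCohLocal.isQCoh_of_isInvertible hinv
  have hL : ∀ w : Z, ∃ (T : Z.Opens) (e₀ : Γ(L, T)), w ∈ T ∧ IsGen e₀ := by
    intro w
    obtain ⟨a, ha⟩ := cover w
    exact ⟨V a, e a, ha, he a⟩
  obtain ⟨s₀, hs₀⟩ := exists_isVal_one hV he hge hgc hq hW
  obtain ⟨s, hs, hgen⟩ := exists_genAt_finset hL hq hW (RingHom.ker (c.app W).hom) S hSW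
    (fun w hw => exists_mem_ker c hW (hSW w hw) (hSc w hw))
    (fun w hw w' hw' hne => by
      have h : ¬ w' ⤳ w := fun h => hne (hS w hw w' hw' h).symm
      rw [specializes_iff_forall_open] at h
      push Not at h
      obtain ⟨V', hV', hwV, hw'V⟩ := h
      obtain ⟨f, hf, hwf⟩ := hW.exists_basicOpen_le (V := ⟨V', hV'⟩) ⟨w, hwV⟩ (hSW w hw)
      exact ⟨f, hwf, fun h => hw'V (hf h)⟩) s₀
  have hs1 : IsVal c e s 1 := hs₀.of_sub_mem he hV hge hgc hs
  choose f hf using fun a => ((he a).res (inf_le_right : W ⊓ V a ≤ V a)).exists_eq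
    (Fdesc.LocGen.res L inf_le_left s)
  refine ⟨f, ?_, ?_, ?_⟩
  · intro a b T hT ha hb
    apply ((he a).res ha).ext
    have h1 := congrArg (Fdesc.LocGen.res L (le_inf hT ha)) (hf a)
    rw [res_res, res_smul, res_res] at h1
    have h2 := congrArg (Fdesc.LocGen.res L (le_inf hT hb)) (hf b)
    rw [res_res, res_smul, res_res] at h2
    have h3 := congrArg (Fdesc.LocGen.res L (le_inf hb ha)) (hge b a)
    rw [res_res, res_smul, res_res] at h3
    simp only [g, ores_ores] at h3
    rw [← h1, h2, h3, smul_smul, mul_comm]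
  · intro a
    have h1 := hs1 a (W ⊓ V a) inf_le_left inf_le_right (f a) (hf a)
    rw [← h1, map_one]
  · intro w hw a ha
    exact (genAt_iff inf_le_left (⟨hSW w hw, ha⟩ : w ∈ W ⊓ V a) ((he a).res inf_le_right) (hf a)).mp (hgen w hw)

end Groth.Agent.Etdl.H118.Coef
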