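import Groth.Agent.Etdl.H118.TopFin
import Groth.Agent.Etdl.H494.Defs
import Groth.Agent.UnramA.SmoothFibreDim
import Groth.Agent.VarietyB.DimTop
import Mathlib.AlgebraicGeometry.Morphisms.UniversallyOpen
import Mathlib.AlgebraicGeometry.Noetherian
import Mathlib.AlgebraicGeometry.Morphisms.FiniteType

/-!
# Fibres of `P_T ⟶ T` for a proper curve `P` with a dense open smooth part `X`

* `GenFib p t`: the maximal points of the fibre of `p` over `t`; finite for `p` of finite type;
* `snd_mem_of_dense`: the maximal points of the fibres of `P_T ⟶ T` lie over every dense open subset of `P`;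
* `finite_fibre_of_disjoint`: a closed subset of `X_T` which is closed in `P_T` and contains no maximal point of the
  fibre over `t` has only finitely many points over `t`.
-/

set_option autoImplicit false
universe u

open CategoryTheory CategoryTheory.Limits AlgebraicGeometry TopologicalSpace Opposite

namespace Groth.Agent.Etdl.H118.FibreFin

open Groth.Agent.Etdl.H494

/-- The maximal points of the fibre of `p` over `t`. -/
def GenFib {Z T : Scheme.{u}} (p : Z ⟶ T) (t : T) : Set Z := {η | p η = t ∧ ∀ z, p z = t → z ⤳ η → z = η}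

theorem isNoetherian_fiber {Z T : Scheme.{u}} (p : Z ⟶ T) [LocallyOfFiniteType p] [QuasiCompact p] (t : T) :
    IsNoetherian (p.fiber t) := by
  have h1 : LocallyOfFiniteType (p.fiberToSpecResidueField t) :=
    MorphismProperty.pullback_snd _ _ inferInstance
  have h2 : IsLocallyNoetherian (p.fiber t) := LocallyOfFiniteType.isLocallyNoetherian (p.fiberToSpecResidueField t)
  exact { }

theorem exists_fiberι_eq {Z T : Scheme.{u}} (p : Z ⟶ T) (t : T) (z : Z) (hz : p z = t) :
    ∃ y : p.fiber t, p.fiberι t y = z := by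
  have : z ∈ Set.range (p.fiberι t) := by rw [p.range_fiberι]; exact hz
  exact this

theorem apply_fiberι {Z T : Scheme.{u}} (p : Z ⟶ T) (t : T) (y : p.fiber t) : p (p.fiberι t y) = t := by
  have : p.fiberι t y ∈ Set.range (p.fiberι t) := ⟨y, rfl⟩
  rw [p.range_fiberι] at this
  exact this

theorem specializes_fiberι_iff {Z T : Scheme.{u}} (p : Z ⟶ T) (t : T) (y y' : p.fiber t) :
    p.fiberι t y ⤳ p.fiberι t y' ↔ y ⤳ y' :=
  (p.fiberι t).isEmbedding.isInducing.specializes_iff

theorem mem_genFib_iff {Z T : Scheme.{u}} (p : Z ⟶ T) (t : T) (y : p.fiber t) :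
    p.fiberι t y ∈ GenFib p t ↔ ∀ z : p.fiber t, z ⤳ y → z = y := by
  constructor
  · rintro ⟨-, h⟩ z hz
    exact (p.fiberι t).isEmbedding.injective (h _ (apply_fiberι p t z) ((specializes_fiberι_iff p t z y).mpr hz))
  · intro h
    refine ⟨apply_fiberι p t y, fun z hz hzy => ?_⟩
    obtain ⟨z', rfl⟩ := exists_fiberι_eq p t z hz
    rw [h z' ((specializes_fiberι_iff p t z' y).mp hzy)]

theorem finite_genFib {Z T : Scheme.{u}} (p : Z ⟶ T) [LocallyOfFiniteType p] [QuasiCompact p] (t : T) :
    (GenFib p t).Finite := by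
  have := isNoetherian_fiber p t
  refine ((TopFin.finite_generic (G := p.fiber t)).image (p.fiberι t)).subset ?_
  intro η hη
  obtain ⟨y, rfl⟩ := exists_fiberι_eq p t η hη.1
  exact ⟨y, (mem_genFib_iff p t y).mp hη, rfl⟩

section

variable {k : Type u} [Field k] {P Y X : Scheme.{u}} (pbar : P ⟶ Spec (CommRingCat.of k))
  (j : X ⟶ P)

theorem snd_mem_of_dense [IsProper pbar] {T : Over (Spec (CommRingCat.of k))} {t : T.left}
    {η : PT pbar T} (hη : η ∈ GenFib (pullback.fst T.hom pbar) t) {U : P.Opens} (hU : Dense (U : Set P)) :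
    pullback.snd T.hom pbar η ∈ U := by
  have hNl : IsLocallyNoetherian P := LocallyOfFiniteType.isLocallyNoetherian pbar
  have hcomp : CompactSpace P := QuasiCompact.compactSpace_of_compactSpace pbar
  have hN : IsNoetherian P := { }
  obtain ⟨y, rfl⟩ := exists_fiberι_eq (pullback.fst T.hom pbar) t η hη.1
  have hy := (mem_genFib_iff _ t y).mp hη
  have hfl : Flat ((pullback.fst T.hom pbar).fiberι t ≫ pullback.snd T.hom pbar) := by
    have hsq1 : IsPullback ((pullback.fst T.hom pbar).fiberι t)
        ((pullback.fst T.hom pbar).fiberToSpecResidueField t) (pullback.fst T.hom pbar)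
        (T.left.fromSpecResidueField t) := IsPullback.of_hasPullback _ _
    have hsq2 : IsPullback (pullback.snd T.hom pbar) (pullback.fst T.hom pbar) pbar T.hom :=
      (IsPullback.of_hasPullback T.hom pbar).flip
    have hfl0 : Flat (T.left.fromSpecResidueField t ≫ T.hom) := inferInstance
    exact MorphismProperty.of_isPullback (P := @Flat) (hsq1.paste_horiz hsq2).flip hfl0
  refine TopFin.mem_of_dense (G := P) U.isOpen hU fun q hq => ?_
  obtain ⟨z, hz, hzq⟩ := Flat.generalizingMap ((pullback.fst T.hom pbar).fiberι t ≫ pullback.snd T.hom pbar) hq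
  rw [hy z hz] at hzq
  exact hzq.symm

/-- The open immersion `X_T ⟶ P_T`. -/
noncomputable def jT (T : Over (Spec (CommRingCat.of k))) : pullback T.hom (j ≫ pbar) ⟶ PT pbar T :=
  pullback.lift (pullback.fst _ _) (pullback.snd _ _ ≫ j) (by rw [Category.assoc]; exact pullback.condition)

variable {pbar j}

@[reassoc (attr := simp)]
theorem jT_fst (T : Over (Spec (CommRingCat.of k))) : jT pbar j T ≫ pullback.fst T.hom pbar = pullback.fst _ _ :=
  pullback.lift_fst _ _ _

@[reassoc (attr := simp)]
theorem jT_snd (T : Over (Spec (CommRingCat.of k))) :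
    jT pbar j T ≫ pullback.snd T.hom pbar = pullback.snd _ _ ≫ j :=
  pullback.lift_snd _ _ _

variable (pbar j)

theorem isPullback_jT (T : Over (Spec (CommRingCat.of k))) :
    IsPullback (jT pbar j T) (pullback.snd T.hom (j ≫ pbar)) (pullback.snd T.hom pbar) j := by
  refine IsPullback.of_right (h₁₂ := pullback.fst T.hom pbar) (v₁₃ := T.hom) (h₂₂ := pbar) ?_ (jT_snd T)
    (IsPullback.of_hasPullback T.hom pbar)
  rw [jT_fst]
  exact IsPullback.of_hasPullback _ _

instance [IsOpenImmersion j] (T : Over (Spec (CommRingCat.of k))) : IsOpenImmersion (jT pbar j T) :=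
  MorphismProperty.of_isPullback (P := @IsOpenImmersion) (isPullback_jT pbar j T).flip inferInstance

theorem range_jT [IsOpenImmersion j] (T : Over (Spec (CommRingCat.of k))) (x : PT pbar T)
    (hx : pullback.snd T.hom pbar x ∈ Set.range j) : x ∈ Set.range (jT pbar j T) := by
  obtain ⟨y, hy⟩ := hx
  obtain ⟨z, hz, -⟩ := Scheme.exists_preimage_of_isPullback (isPullback_jT pbar j T) x y hy.symm
  exact ⟨z, hz⟩

/-- Fibres of a morphism smooth of relative dimension `n` have dimension at most `n`. -/
theorem topologicalKrullDim_fiber_le (n : ℕ) {X S : Scheme.{u}} (p : X ⟶ S)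
    [SmoothOfRelativeDimension n p] (s : S) : topologicalKrullDim (p.fiber s) ≤ n := by
  have h0 := smoothOfRelativeDimension_isStableUnderBaseChange.{u} n
  let g : p.fiber s ⟶ Spec (CommRingCat.of (S.residueField s)) := p.fiberToSpecResidueField s
  have : SmoothOfRelativeDimension n g :=
    MorphismProperty.pullback_snd (P := @SmoothOfRelativeDimension n) _ _ inferInstance
  rw [VarietyB.DimTop.topologicalKrullDim_eq_iSup_localDim]
  exact iSup_le fun x => (UnramA.SmoothFibreDim.localDim_eq n g x).le

/-- A closed subset of `P_T` contained in `X_T` and without maximal points of the fibre over `t` is finite over `t`. -/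
theorem finite_fibre [IsProper pbar] [IsOpenImmersion j] [SmoothOfRelativeDimension 1 (j ≫ pbar)]
    {T : Over (Spec (CommRingCat.of k))} (t : T.left) {C : Set (PT pbar T)} (hC : IsClosed C)
    (hgen : ∀ η ∈ GenFib (pullback.fst T.hom pbar) t, η ∉ C) :
    {x | pullback.fst T.hom pbar x = t ∧ pullback.snd T.hom pbar x ∈ Set.range j ∧ x ∈ C}.Finite := by
  have h0 := smoothOfRelativeDimension_isStableUnderBaseChange.{u} 1
  let p : pullback T.hom (j ≫ pbar) ⟶ T.left := pullback.fst _ _
  have hp : SmoothOfRelativeDimension 1 p :=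
    MorphismProperty.pullback_fst (P := @SmoothOfRelativeDimension 1) _ _ inferInstance
  have hNl : IsLocallyNoetherian P := LocallyOfFiniteType.isLocallyNoetherian pbar
  have hcomp : CompactSpace P := QuasiCompact.compactSpace_of_compactSpace pbar
  have hN : IsNoetherian P := { }
  have hNX : IsLocallyNoetherian X := isLocallyNoetherian_of_isOpenImmersion j
  have hqcj : QuasiCompact j := inferInstance
  have hpq : QuasiCompact p := MorphismProperty.pullback_fst (P := @QuasiCompact) _ _ inferInstance
  have hps : Smooth p := SmoothOfRelativeDimension.smooth 1 p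
  have := isNoetherian_fiber p t
  have hfin := TopFin.finite_of_no_generic (G := p.fiber t) (topologicalKrullDim_fiber_le 1 p t)
    (C := (p.fiberι t ≫ jT pbar j T) ⁻¹' C) (hC.preimage (p.fiberι t ≫ jT pbar j T).continuous) (by
      intro y hy
      have h1 : jT pbar j T (p.fiberι t y) ∉ GenFib (pullback.fst T.hom pbar) t := fun h => hgen _ h hy
      have h2 : pullback.fst T.hom pbar (jT pbar j T (p.fiberι t y)) = t := by
        rw [← Scheme.Hom.comp_apply, jT_fst]
        exact apply_fiberι p t y
      have h3 : ∃ z, pullback.fst T.hom pbar z = t ∧ z ⤳ jT pbar j T (p.fiberι t y) ∧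
          z ≠ jT pbar j T (p.fiberι t y) := by
        by_contra hcon
        push Not at hcon
        exact h1 ⟨h2, hcon⟩
      obtain ⟨z, hz1, hz2, hz3⟩ := h3
      have hz4 : z ∈ Set.range (jT pbar j T) :=
        hz2.mem_open (jT pbar j T).isOpenEmbedding.isOpen_range ⟨_, rfl⟩
      obtain ⟨z, rfl⟩ := hz4
      rw [← Scheme.Hom.comp_apply, jT_fst] at hz1
      obtain ⟨w, rfl⟩ := exists_fiberι_eq p t z hz1
      refine ⟨w, ?_, ?_⟩
      · rw [(jT pbar j T).isOpenEmbedding.isInducing.specializes_iff, specializes_fiberι_iff] at hz2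
        exact hz2
      · rintro rfl
        exact hz3 rfl)
  refine (hfin.1.image (p.fiberι t ≫ jT pbar j T)).subset ?_
  rintro x ⟨hx1, hx2, hx3⟩
  obtain ⟨y, rfl⟩ := range_jT pbar j T x hx2
  rw [← Scheme.Hom.comp_apply, jT_fst] at hx1
  obtain ⟨w, rfl⟩ := exists_fiberι_eq p t y hx1
  exact ⟨w, hx3, rfl⟩

end

end Groth.Agent.Etdl.H118.FibreFin
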