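import Groth.Agent.Picfga.CurveRing
import Groth.Agent.Fdesc.LocGen

/-!
# Functions with finite zero fibres on smooth relative curves

`f : X ⟶ S` smooth of relative dimension one, `h ∈ Γ(X, U)` whose zero set has finite fibres over `S`. Then `h` is
a nonzerodivisor on all affine opens contained in `U`, and in charts the quotient is flat and finitely presented.
-/

set_option autoImplicit false
universe u

open CategoryTheory CategoryTheory.Limits AlgebraicGeometry TopologicalSpace Opposite Polynomial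

namespace Groth.Agent.Etdl.H118.FinReg

open Groth.Agent.Fdesc.LocGen Groth.Agent.Picfga.CurveChart Groth.Agent.Picfga.CurveRing

variable {X S : Scheme.{u}} (f : X ⟶ S)

/-- Finite fibres of the zero set give a quasi-finite quotient ring. -/
theorem quasiFinite_quotient [LocallyOfFiniteType f] {U : S.Opens} (hU : IsAffineOpen U) {V : X.Opens}
    (hV : IsAffineOpen V) (e : V ≤ f ⁻¹ᵁ U) (h : Γ(X, V))
    (hfin : ∀ s : S, {x : X | x ∈ V ∧ f x = s ∧ x ∉ X.basicOpen h}.Finite) :
    ((Ideal.Quotient.mk (Ideal.span {h})).comp (f.appLE U V e).hom).QuasiFinite := by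
  let q : CommRingCat.of (Γ(X, V)) ⟶ CommRingCat.of (Γ(X, V) ⧸ Ideal.span {h}) :=
    CommRingCat.ofHom (Ideal.Quotient.mk (Ideal.span {h}))
  have hcl : IsClosedImmersion (Spec.map q) := IsClosedImmersion.spec_of_surjective _ Ideal.Quotient.mk_surjective
  let F : Spec (CommRingCat.of (Γ(X, V) ⧸ Ideal.span {h})) ⟶ S := Spec.map q ≫ hV.fromSpec ≫ f
  have hqf : LocallyQuasiFinite F := by
    refine LocallyQuasiFinite.of_finite_preimage_singleton F fun s => ?_
    have hinj : Function.Injective (fun p : Spec (CommRingCat.of (Γ(X, V) ⧸ Ideal.span {h})) =>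
        hV.fromSpec (Spec.map q p)) :=
      hV.fromSpec.isOpenEmbedding.injective.comp hcl.base_closed.injective
    refine Set.Finite.of_finite_image (f := fun p : Spec (CommRingCat.of (Γ(X, V) ⧸ Ideal.span {h})) =>
        hV.fromSpec (Spec.map q p)) ((hfin s).subset ?_) hinj.injOn
    rintro _ ⟨p, hp, rfl⟩
    refine ⟨?_, ?_, ?_⟩
    · have : hV.fromSpec (Spec.map q p) ∈ Set.range hV.fromSpec := ⟨_, rfl⟩
      rw [hV.range_fromSpec] at this
      exact this
    · have : F p = s := hp
      rw [← this]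
      rfl
    · intro hmem
      have h1 : Spec.map q p ∈ hV.fromSpec ⁻¹ᵁ X.basicOpen h := hmem
      rw [hV.fromSpec_preimage_basicOpen] at h1
      have h2 : h ∉ (Spec.map q p).asIdeal := h1
      apply h2
      change Ideal.Quotient.mk (Ideal.span {h}) h ∈ p.asIdeal
      rw [Ideal.Quotient.eq_zero_iff_mem.mpr (Ideal.mem_span_singleton_self h)]
      exact zero_mem _
  have hF : F = Spec.map (f.appLE U V e ≫ q) ≫ hU.fromSpec := by
    simp only [F, Spec.map_comp, Category.assoc]
    congr 1
    exact (IsAffineOpen.SpecMap_appLE_fromSpec f hU hV e).symm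
  rw [hF] at hqf
  have h3 : LocallyQuasiFinite (Spec.map (f.appLE U V e ≫ q)) :=
    LocallyQuasiFinite.of_comp _ hU.fromSpec
  rw [HasRingHomProperty.Spec_iff (P := @LocallyQuasiFinite)] at h3
  exact h3

variable {f}

/-- A function with finite zero fibres on a smooth relative curve is a nonzerodivisor on affine opens. -/
theorem mem_nonZeroDivisors [SmoothOfRelativeDimension 1 f] {U : X.Opens} (h : Γ(X, U))
    (hfin : ∀ s : S, {x : X | x ∈ U ∧ f x = s ∧ x ∉ X.basicOpen h}.Finite)
    {W : X.Opens} (hW : W ≤ U) : ores hW h ∈ nonZeroDivisors Γ(X, W) := by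
  have hsm : Smooth f := SmoothOfRelativeDimension.smooth 1 f
  rw [mem_nonZeroDivisors_iff_right]
  intro a ha
  have key : ∀ x : W, ∃ (V : X.Opens) (hVW : V ≤ W), x.1 ∈ V ∧ ores (hVW.trans hW) h ∈ nonZeroDivisors Γ(X, V) := by
    intro x
    obtain ⟨UU, V, hx, hVW, e, g, hg, hge⟩ := exists_chart f x.1 W x.2
    refine ⟨V.1, hVW, hx, ?_⟩
    refine nonZeroDivisor_of (f.appLE UU.1 V.1 e).hom g hg hge (f.smooth_appLE UU.2 V.2 e) _ ?_
    refine quasiFinite_quotient f UU.2 V.2 e _ fun s => (hfin s).subset ?_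
    rintro x ⟨hxV, hxs, hxh⟩
    refine ⟨hW (hVW hxV), hxs, fun hmem => hxh ?_⟩
    have : X.basicOpen (ores (hVW.trans hW) h) = V.1 ⊓ X.basicOpen h := X.basicOpen_res h (homOfLE _).op
    rw [this]
    exact ⟨hxV, hmem⟩
  choose V hVW hxV hreg using key
  refine ores_ext V hVW (fun x hx => Opens.mem_iSup.mpr ⟨⟨x, hx⟩, hxV _⟩) fun x => ?_
  have h1 := congrArg (ores (hVW x)) ha
  rw [map_mul, ores_ores, map_zero] at h1
  rw [map_zero]
  exact (mul_right_mem_nonZeroDivisors_eq_zero_iff (hreg x)).mp h1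

end Groth.Agent.Etdl.H118.FinReg
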