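import Groth.Agent.Picfga.LineCocycle
import Groth.Agent.Pi1C.ZeroScheme
import Groth.Agent.Fga.LimPic

/-!
# Sections of an invertible module over an affine open with prescribed behaviour

`L` a quasi-coherent module on `Z` with generators `e i` over an open cover `V i`, `c : Yt ⟶ Z` such that the
transition functions become `1` on `Yt` (so `c^* L` is trivialised).  `IsVal c e m y`: the function `y` is the
value of the section `m` along `c`.

* `exists_isVal_one`: over an affine open `W` there is a section with value `1` along a closed immersion `c`;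
* `exists_genAt_finset`: it can be changed by `J • Γ(L, W)` so that it generates `L` at finitely many points none
  of which specialises to another one and at which `J` does not vanish.
-/

set_option autoImplicit false
universe u

open CategoryTheory AlgebraicGeometry TopologicalSpace Opposite

namespace Groth.Agent.Etdl.H118.SecAff

open Groth.Agent.Fdesc.LocGen

variable {Z Yt : Scheme.{u}} (c : Yt ⟶ Z) {L : Z.Modules} {ι : Type u} {V : ι → Z.Opens}
  (e : ∀ i, Γ(L, V i))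

/-- `y` is the value of the section `m` of `L` along `c : Yt ⟶ Z`, where `c^* L` is trivialised by the `c^* (e i)`. -/
def IsVal {U : Z.Opens} (m : Γ(L, U)) (y : Γ(Yt, c ⁻¹ᵁ U)) : Prop :=
  ∀ (i : ι) (T : Z.Opens) (hU : T ≤ U) (hi : T ≤ V i) (a : Γ(Z, T)),
    res L hU m = a • res L hi (e i) → ores (c.preimage_mono hU) y = (c.app T).hom a

variable {c e}

lemma app_ores {U T : Z.Opens} (h : T ≤ U) (a : Γ(Z, U)) :
    (c.app T).hom (ores h a) = ores (c.preimage_mono h) ((c.app U).hom a) := by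
  have := congr($(c.naturality (homOfLE h).op) a)
  exact this

lemma IsVal.res {U U' : Z.Opens} {m : Γ(L, U)} {y : Γ(Yt, c ⁻¹ᵁ U)} (h : IsVal c e m y) (hU : U' ≤ U) :
    IsVal c e (Fdesc.LocGen.res L hU m) (ores (c.preimage_mono hU) y) := by
  intro i T hT hi a ha
  rw [ores_ores]
  exact h i T (hT.trans hU) hi a (by rw [← res_res L hU hT]; exact ha)

lemma IsVal.add {U : Z.Opens} (he : ∀ i, IsGen (e i)) {m m' : Γ(L, U)} {y y' : Γ(Yt, c ⁻¹ᵁ U)} (h : IsVal c e m y)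
    (h' : IsVal c e m' y') : IsVal c e (m + m') (y + y') := by
  intro i T hT hi a ha
  obtain ⟨b, hb⟩ := ((he i).res hi).exists_eq (Fdesc.LocGen.res L hT m)
  obtain ⟨b', hb'⟩ := ((he i).res hi).exists_eq (Fdesc.LocGen.res L hT m')
  have : a = b + b' := by
    apply ((he i).res hi).ext
    rw [← ha, map_add, hb, hb', add_smul]
  rw [map_add, h i T hT hi b hb, h' i T hT hi b' hb', this, map_add]

lemma IsVal.smul {U : Z.Opens} (he : ∀ i, IsGen (e i)) {m : Γ(L, U)} {y : Γ(Yt, c ⁻¹ᵁ U)} (h : IsVal c e m y)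
    (r : Γ(Z, U)) : IsVal c e (r • m) ((c.app U).hom r * y) := by
  intro i T hT hi a ha
  obtain ⟨b, hb⟩ := ((he i).res hi).exists_eq (Fdesc.LocGen.res L hT m)
  have : a = ores hT r * b := by
    apply ((he i).res hi).ext
    rw [← ha, res_smul, hb, mul_smul]
  rw [map_mul, h i T hT hi b hb, this, map_mul, app_ores]

lemma IsVal.zero {U : Z.Opens} (he : ∀ i, IsGen (e i)) : IsVal c e (0 : Γ(L, U)) 0 := by
  intro i T hT hi a ha
  have : a = 0 := by
    apply ((he i).res hi).ext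
    rw [← ha, map_zero, zero_smul]
  rw [this, map_zero, map_zero]

/-- It suffices to check values on a cover on which coefficients are known. -/
lemma isVal_of_cover {g : ∀ i j, Γ(Z, V i ⊓ V j)}
    (he : ∀ i, IsGen (e i)) (hg : ∀ i j, Fdesc.LocGen.res L inf_le_left (e i) = g i j • Fdesc.LocGen.res L inf_le_right (e j))
    (hgc : ∀ i j, (c.app (V i ⊓ V j)).hom (g i j) = 1)
    {U : Z.Opens} (m : Γ(L, U)) (y : Γ(Yt, c ⁻¹ᵁ U))
    (H : ∀ x ∈ U, ∃ (i : ι) (T : Z.Opens) (hU : T ≤ U) (hi : T ≤ V i) (a : Γ(Z, T)), x ∈ T ∧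
      Fdesc.LocGen.res L hU m = a • Fdesc.LocGen.res L hi (e i) ∧ ores (c.preimage_mono hU) y = (c.app T).hom a) :
    IsVal c e m y := by
  intro i T hT hi a ha
  choose I S hS hSi b hx hb hy using fun x : T => H x.1 (hT x.2)
  refine ores_ext (fun x : T => c ⁻¹ᵁ (T ⊓ S x)) (fun x => c.preimage_mono inf_le_left) ?_ fun x => ?_
  · intro z hz
    exact Opens.mem_iSup.mpr ⟨⟨c z, hz⟩, hz, hx ⟨c z, hz⟩⟩
  · have h1 : T ⊓ S x ≤ V i ⊓ V (I x) := inf_le_inf hi (hSi x)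
    have h2 : ores (inf_le_right : T ⊓ S x ≤ S x) (b x) =
        ores (inf_le_left : T ⊓ S x ≤ T) a * ores h1 (g i (I x)) := by
      apply ((he (I x)).res (inf_le_right.trans (hSi x))).ext
      have h3 := congrArg (Fdesc.LocGen.res L h1) (hg i (I x))
      rw [res_res, res_smul, res_res] at h3
      have h4 := congrArg (Fdesc.LocGen.res L (inf_le_left : T ⊓ S x ≤ T)) ha
      rw [res_res, res_smul, res_res] at h4
      have h5 := congrArg (Fdesc.LocGen.res L (inf_le_right : T ⊓ S x ≤ S x)) (hb x)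
      rw [res_res, res_smul, res_res] at h5
      rw [← h5, mul_smul, ← h3, ← h4]
    have h3 := congrArg (c.app (T ⊓ S x)).hom h2
    rw [map_mul, app_ores, app_ores, app_ores, hgc, map_one, mul_one, ← hy x] at h3
    rw [ores_ores] at h3 ⊢
    exact h3

/-- Existence of values. -/
theorem exists_isVal {g : ∀ i j, Γ(Z, V i ⊓ V j)} (hV : ⨆ i, V i = ⊤)
    (he : ∀ i, IsGen (e i)) (hg : ∀ i j, Fdesc.LocGen.res L inf_le_left (e i) = g i j • Fdesc.LocGen.res L inf_le_right (e j))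
    (hgc : ∀ i j, (c.app (V i ⊓ V j)).hom (g i j) = 1)
    {U : Z.Opens} (m : Γ(L, U)) : ∃ y : Γ(Yt, c ⁻¹ᵁ U), IsVal c e m y := by
  have hcov : U ≤ ⨆ i, U ⊓ V i := by rw [← inf_iSup_eq, hV, inf_top_eq]
  have hcov' : c ⁻¹ᵁ U ≤ ⨆ i, c ⁻¹ᵁ (U ⊓ V i) := by
    intro z hz
    obtain ⟨i, hi⟩ := Opens.mem_iSup.mp (hcov hz)
    exact Opens.mem_iSup.mpr ⟨i, hi⟩
  choose a ha using fun i => ((he i).res (inf_le_right : U ⊓ V i ≤ V i)).exists_eq
    (Fdesc.LocGen.res L inf_le_left m)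
  obtain ⟨y, hy⟩ := ores_glue (fun i => c ⁻¹ᵁ (U ⊓ V i)) (fun i => c.preimage_mono inf_le_left) hcov'
    (fun i => (c.app (U ⊓ V i)).hom (a i)) (by
      intro i j
      have h1 : (U ⊓ V i) ⊓ (U ⊓ V j) ≤ V i ⊓ V j := inf_le_inf inf_le_right inf_le_right
      have h2 : ores (inf_le_right : (U ⊓ V i) ⊓ (U ⊓ V j) ≤ U ⊓ V j) (a j) =
          ores (inf_le_left : (U ⊓ V i) ⊓ (U ⊓ V j) ≤ U ⊓ V i) (a i) * ores h1 (g i j) := by
        apply ((he j).res (inf_le_right.trans inf_le_right)).ext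
        have h3 := congrArg (Fdesc.LocGen.res L h1) (hg i j)
        rw [res_res, res_smul, res_res] at h3
        have h4 := congrArg (Fdesc.LocGen.res L (inf_le_left : (U ⊓ V i) ⊓ (U ⊓ V j) ≤ U ⊓ V i)) (ha i)
        rw [res_res, res_smul, res_res] at h4
        have h5 := congrArg (Fdesc.LocGen.res L (inf_le_right : (U ⊓ V i) ⊓ (U ⊓ V j) ≤ U ⊓ V j)) (ha j)
        rw [res_res, res_smul, res_res] at h5
        rw [← h5, mul_smul, ← h3, ← h4]
      have h3 := congrArg (c.app ((U ⊓ V i) ⊓ (U ⊓ V j))).hom h2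
      rw [map_mul, app_ores, app_ores, app_ores, hgc, map_one, mul_one] at h3
      exact h3.symm)
  refine ⟨y, isVal_of_cover he hg hgc m y fun x hx => ?_⟩
  obtain ⟨i, hi⟩ := Opens.mem_iSup.mp (hcov hx)
  exact ⟨i, U ⊓ V i, inf_le_left, inf_le_right, a i, hi, ha i, hy i⟩

/-- The section `m` generates `L` near the point `w`. -/
def GenAt {U : Z.Opens} (m : Γ(L, U)) (w : Z) : Prop :=
  ∃ (T : Z.Opens) (h : T ≤ U), w ∈ T ∧ IsGen (Fdesc.LocGen.res L h m)

lemma basicOpen_ores {U T : Z.Opens} (h : T ≤ U) (a : Γ(Z, U)) :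
    Z.basicOpen (ores h a) = T ⊓ Z.basicOpen a :=
  Z.basicOpen_res a (homOfLE h).op

lemma mem_basicOpen_of_isUnit {U : Z.Opens} {a : Γ(Z, U)} (ha : IsUnit a) {w : Z} (hw : w ∈ U) :
    w ∈ Z.basicOpen a := by
  rw [Z.basicOpen_of_isUnit ha]
  exact hw

lemma genAt_iff {U T : Z.Opens} (h : T ≤ U) {w : Z} (hw : w ∈ T) {m : Γ(L, U)} {e₀ : Γ(L, T)}
    (he : IsGen e₀) {a : Γ(Z, T)} (ha : Fdesc.LocGen.res L h m = a • e₀) : GenAt m w ↔ w ∈ Z.basicOpen a := by
  constructor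
  · rintro ⟨S, hS, hwS, hgen⟩
    have h1 := hgen.res (inf_le_left : S ⊓ T ≤ S)
    rw [res_res] at h1
    have h2 := congrArg (Fdesc.LocGen.res L (inf_le_right : S ⊓ T ≤ T)) ha
    rw [res_res, res_smul] at h2
    rw [h2] at h1
    have h3 := mem_basicOpen_of_isUnit ((he.res inf_le_right).isUnit_of_smul h1)
      (w := w) ⟨hwS, hw⟩
    rw [basicOpen_ores] at h3
    exact h3.2
  · intro hwa
    refine ⟨Z.basicOpen a, (Z.basicOpen_le a).trans h, hwa, ?_⟩
    have h2 := congrArg (Fdesc.LocGen.res L (Z.basicOpen_le a)) ha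
    rw [res_res, res_smul] at h2
    rw [h2]
    exact (he.res _).unit_smul (Pi1C.ZeroScheme.isUnit_ores_basicOpen a)

lemma mem_basicOpen_iff_germ {U : Z.Opens} {w : Z} (hw : w ∈ U) (a : Γ(Z, U)) :
    w ∈ Z.basicOpen a ↔ IsUnit (Z.presheaf.germ U w hw a) := Z.mem_basicOpen _ _ hw

lemma not_mem_basicOpen_add {U : Z.Opens} {w : Z} (hw : w ∈ U) {a b : Γ(Z, U)}
    (ha : w ∉ Z.basicOpen a) (hb : w ∉ Z.basicOpen b) : w ∉ Z.basicOpen (a + b) := by
  rw [mem_basicOpen_iff_germ hw] at ha hb ⊢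
  rw [map_add]
  exact IsLocalRing.nonunits_add ha hb

lemma mem_basicOpen_mul {U : Z.Opens} {w : Z} (hw : w ∈ U) {a b : Γ(Z, U)} :
    w ∈ Z.basicOpen (a * b) ↔ w ∈ Z.basicOpen a ∧ w ∈ Z.basicOpen b := by
  rw [Z.basicOpen_mul]
  rfl

/-- At every point of `U` there is a generator near it. -/
lemma exists_gen_mem (hV : ⨆ i, V i = ⊤) (he : ∀ i, IsGen (e i)) {U : Z.Opens} {w : Z} (hw : w ∈ U) :
    ∃ (T : Z.Opens) (h : T ≤ U) (e₀ : Γ(L, T)), w ∈ T ∧ IsGen e₀ := by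
  have : w ∈ ⨆ i, V i := by rw [hV]; trivial
  obtain ⟨i, hi⟩ := Opens.mem_iSup.mp this
  exact ⟨U ⊓ V i, inf_le_left, Fdesc.LocGen.res L inf_le_right (e i), ⟨hw, hi⟩, (he i).res _⟩

section
variable (hL : ∀ w : Z, ∃ (T : Z.Opens) (e₀ : Γ(L, T)), w ∈ T ∧ IsGen e₀)
include hL

lemma exists_coeff {U : Z.Opens} {w : Z} (hw : w ∈ U) :
    ∃ (T : Z.Opens) (h : T ≤ U) (e₀ : Γ(L, T)), w ∈ T ∧ IsGen e₀ := by
  obtain ⟨T, e₀, hwT, he⟩ := hL w
  exact ⟨U ⊓ T, inf_le_left, Fdesc.LocGen.res L inf_le_right e₀, ⟨hw, hwT⟩, he.res _⟩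

lemma not_genAt_add {U : Z.Opens} {w : Z} (hw : w ∈ U) {m m' : Γ(L, U)} (h : ¬ GenAt m w)
    (h' : ¬ GenAt m' w) : ¬ GenAt (m + m') w := by
  obtain ⟨T, hT, e₀, hwT, he⟩ := exists_coeff hL hw
  obtain ⟨a, ha⟩ := he.exists_eq (Fdesc.LocGen.res L hT m)
  obtain ⟨b, hb⟩ := he.exists_eq (Fdesc.LocGen.res L hT m')
  have hab : Fdesc.LocGen.res L hT (m + m') = (a + b) • e₀ := by rw [map_add, ha, hb, add_smul]
  rw [genAt_iff hT hwT he ha] at h
  rw [genAt_iff hT hwT he hb] at h'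
  rw [genAt_iff hT hwT he hab]
  exact not_mem_basicOpen_add hwT h h'

lemma genAt_smul_iff {U : Z.Opens} {w : Z} (hw : w ∈ U) {m : Γ(L, U)} (r : Γ(Z, U)) :
    GenAt (r • m) w ↔ w ∈ Z.basicOpen r ∧ GenAt m w := by
  obtain ⟨T, hT, e₀, hwT, he⟩ := exists_coeff hL hw
  obtain ⟨a, ha⟩ := he.exists_eq (Fdesc.LocGen.res L hT m)
  have hra : Fdesc.LocGen.res L hT (r • m) = (ores hT r * a) • e₀ := by rw [res_smul, ha, mul_smul]
  rw [genAt_iff hT hwT he ha, genAt_iff hT hwT he hra, mem_basicOpen_mul hwT, basicOpen_ores]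
  exact and_congr_left' ⟨fun h => h.2, fun h => ⟨hwT, h⟩⟩

lemma genAt_neg_iff {U : Z.Opens} {w : Z} (hw : w ∈ U) {m : Γ(L, U)} :
    GenAt (-m) w ↔ GenAt m w := by
  rw [← neg_one_smul Γ(Z, U) m, genAt_smul_iff hL hw]
  exact ⟨fun h => h.2, fun h => ⟨mem_basicOpen_of_isUnit isUnit_one.neg hw, h⟩⟩

/-- Quasi-coherent invertible modules are generated over affine opens. -/
theorem exists_genAt (hq : Coh.IsQCoh L) {W : Z.Opens} (hW : IsAffineOpen W) {w : Z} (hw : w ∈ W) :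
    ∃ m : Γ(L, W), GenAt m w := by
  obtain ⟨T, hT, e₀, hwT, he⟩ := exists_coeff hL hw
  obtain ⟨f, hfT, hwf⟩ := hW.exists_basicOpen_le ⟨w, hwT⟩ hw
  obtain ⟨n, m, hm⟩ := Pi1C.ZeroScheme.exists_res_eq hq hW f (Fdesc.LocGen.res L hfT e₀)
  refine ⟨m, Z.basicOpen f, Z.basicOpen_le f, hwf, ?_⟩
  rw [hm]
  exact (he.res hfT).unit_smul ((Pi1C.ZeroScheme.isUnit_ores_basicOpen f).pow n)

/-- Changing a section over an affine open by a multiple of `J` such that it generates at given points. -/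
theorem exists_genAt_finset (hq : Coh.IsQCoh L) {W : Z.Opens} (hW : IsAffineOpen W) (J : Ideal Γ(Z, W))
    (S : Finset Z) (hS : ∀ w ∈ S, w ∈ W) (hJ : ∀ w ∈ S, ∃ b ∈ J, w ∈ Z.basicOpen b)
    (hne : ∀ w ∈ S, ∀ w' ∈ S, w ≠ w' → ∃ b : Γ(Z, W), w ∈ Z.basicOpen b ∧ w' ∉ Z.basicOpen b)
    (s₀ : Γ(L, W)) : ∃ s : Γ(L, W), s - s₀ ∈ J • (⊤ : Submodule Γ(Z, W) Γ(L, W)) ∧ ∀ w ∈ S, GenAt s w := by
  classical
  induction S using Finset.induction_on with
  | empty => exact ⟨s₀, by simp, by simp⟩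
  | insert w S hwS ih =>
    obtain ⟨s', hs', hgen⟩ := ih (fun x hx => hS x (Finset.mem_insert_of_mem hx))
      (fun x hx => hJ x (Finset.mem_insert_of_mem hx))
      (fun x hx y hy => hne x (Finset.mem_insert_of_mem hx) y (Finset.mem_insert_of_mem hy))
    have hw := Finset.mem_insert_self w S
    by_cases hs'w : GenAt s' w
    · refine ⟨s', hs', fun x hx => ?_⟩
      obtain rfl | hx := Finset.mem_insert.mp hx
      · exact hs'w
      · exact hgen x hx
    · obtain ⟨b₀, hb₀, hwb₀⟩ := hJ w hw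
      have hne' : ∀ x : S, ∃ b : Γ(Z, W), w ∈ Z.basicOpen b ∧ x.1 ∉ Z.basicOpen b := fun x =>
        hne w hw x.1 (Finset.mem_insert_of_mem x.2) (by rintro rfl; exact hwS x.2)
      choose b hb hb' using hne'
      obtain ⟨m, hm⟩ := exists_genAt hL hq hW (hS w hw)
      let B : Γ(Z, W) := b₀ * ∏ x : S, b x
      have hwB : w ∈ Z.basicOpen B := by
        rw [mem_basicOpen_iff_germ (hS w hw)] at hwb₀ ⊢
        rw [map_mul, map_prod]
        refine hwb₀.mul ?_
        refine Finset.prod_induction _ IsUnit (fun _ _ h h' => h.mul h') isUnit_one fun x _ => ?_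
        exact (mem_basicOpen_iff_germ (hS w hw) _).mp (hb x)
      have hxB : ∀ x ∈ S, x ∉ Z.basicOpen B := by
        intro x hx hxB
        have h1 := ((mem_basicOpen_mul (hS x (Finset.mem_insert_of_mem hx))).mp hxB).2
        rw [← Finset.mul_prod_erase Finset.univ b (Finset.mem_univ ⟨x, hx⟩)] at h1
        exact hb' ⟨x, hx⟩ ((mem_basicOpen_mul (hS x (Finset.mem_insert_of_mem hx))).mp h1).1
      refine ⟨s' + B • m, ?_, fun x hx => ?_⟩
      · rw [add_sub_right_comm]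
        refine add_mem hs' (Submodule.smul_mem_smul (J.mul_mem_right _ hb₀) trivial)
      · obtain rfl | hx := Finset.mem_insert.mp hx
        · by_contra hcon
          refine not_genAt_add hL (hS x hw) hcon ((genAt_neg_iff hL (hS x hw)).not.mpr hs'w) ?_
          rw [add_neg_cancel_comm]
          exact (genAt_smul_iff hL (hS x hw) B).mpr ⟨hwB, hm⟩
        · by_contra hcon
          have hxW := hS x (Finset.mem_insert_of_mem hx)
          have h2 : ¬ GenAt (-(B • m)) x := by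
            rw [genAt_neg_iff hL hxW, genAt_smul_iff hL hxW]
            exact fun h => hxB x hx h.1
          refine not_genAt_add hL hxW hcon h2 ?_
          rw [add_neg_cancel_right]
          exact hgen x hx

end

lemma basicOpen_app {U : Z.Opens} (a : Γ(Z, U)) :
    Yt.basicOpen ((c.app U).hom a) = c ⁻¹ᵁ Z.basicOpen a :=
  (Scheme.preimage_basicOpen c a).symm

/-- If the section `m` generates at `c z`, its value does not vanish at `z`. -/
lemma IsVal.mem_basicOpen_iff (hV : ⨆ i, V i = ⊤) (he : ∀ i, IsGen (e i)) {U : Z.Opens} {m : Γ(L, U)}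
    {y : Γ(Yt, c ⁻¹ᵁ U)} (h : IsVal c e m y) {z : Yt} (hz : c z ∈ U) :
    z ∈ Yt.basicOpen y ↔ GenAt m (c z) := by
  have : c z ∈ ⨆ i, V i := by rw [hV]; trivial
  obtain ⟨i, hi⟩ := Opens.mem_iSup.mp this
  obtain ⟨a, ha⟩ := ((he i).res (inf_le_right : U ⊓ V i ≤ V i)).exists_eq (Fdesc.LocGen.res L inf_le_left m)
  rw [genAt_iff inf_le_left (⟨hz, hi⟩ : c z ∈ U ⊓ V i) ((he i).res inf_le_right) ha]
  have h1 := h i (U ⊓ V i) inf_le_left inf_le_right a ha
  have h2 := congrArg Yt.basicOpen h1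
  rw [basicOpen_ores, basicOpen_app] at h2
  constructor
  · intro hzy
    have : z ∈ c ⁻¹ᵁ (U ⊓ V i) ⊓ Yt.basicOpen y := ⟨⟨hz, hi⟩, hzy⟩
    rw [h2] at this
    exact this
  · intro hza
    have : z ∈ c ⁻¹ᵁ Z.basicOpen a := hza
    rw [← h2] at this
    exact this.2

/-- Over an affine open there is a section with value `1` along a closed immersion. -/
theorem exists_isVal_one {g : ∀ i j, Γ(Z, V i ⊓ V j)} (hV : ⨆ i, V i = ⊤)
    (he : ∀ i, IsGen (e i)) (hg : ∀ i j, Fdesc.LocGen.res L inf_le_left (e i) = g i j • Fdesc.LocGen.res L inf_le_right (e j))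
    (hgc : ∀ i j, (c.app (V i ⊓ V j)).hom (g i j) = 1) (hq : Coh.IsQCoh L) [IsClosedImmersion c]
    {W : Z.Opens} (hW : IsAffineOpen W) : ∃ s : Γ(L, W), IsVal c e s 1 := by
  have hL : ∀ w : Z, ∃ (T : Z.Opens) (e₀ : Γ(L, T)), w ∈ T ∧ IsGen e₀ := by
    intro w
    have : w ∈ ⨆ i, V i := by rw [hV]; trivial
    obtain ⟨i, hi⟩ := Opens.mem_iSup.mp this
    exact ⟨V i, e i, hi, he i⟩
  have hsurj := c.app_surjective W hW
  let 𝔞 : Ideal Γ(Yt, c ⁻¹ᵁ W) :=
    { carrier := {y | ∃ m : Γ(L, W), IsVal c e m y}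
      add_mem' := by
        rintro y y' ⟨m, hm⟩ ⟨m', hm'⟩
        exact ⟨m + m', hm.add he hm'⟩
      zero_mem' := ⟨0, IsVal.zero he⟩
      smul_mem' := by
        rintro r y ⟨m, hm⟩
        obtain ⟨b, rfl⟩ := hsurj r
        exact ⟨b • m, hm.smul he b⟩ }
  have hW' : IsAffineOpen (c ⁻¹ᵁ W) := hW.preimage c
  have htop : 𝔞 = ⊤ := by
    rw [← Ideal.span_eq 𝔞, ← hW'.self_le_iSup_basicOpen_iff]
    intro z hz
    obtain ⟨m, hm⟩ := exists_genAt hL hq hW (w := c z) hz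
    obtain ⟨y, hy⟩ := exists_isVal hV he hg hgc m
    exact Opens.mem_iSup.mpr ⟨⟨y, m, hy⟩, (hy.mem_basicOpen_iff hV he hz).mpr hm⟩
  have h1 : (1 : Γ(Yt, c ⁻¹ᵁ W)) ∈ 𝔞 := by rw [htop]; trivial
  exact h1

/-- Adding an element of `J • Γ(L, W)` with `J` the kernel of restriction to `Yt` does not change the value. -/
lemma IsVal.of_sub_mem (he : ∀ i, IsGen (e i)) {g : ∀ i j, Γ(Z, V i ⊓ V j)} (hV : ⨆ i, V i = ⊤)
    (hg : ∀ i j, Fdesc.LocGen.res L inf_le_left (e i) = g i j • Fdesc.LocGen.res L inf_le_right (e j))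
    (hgc : ∀ i j, (c.app (V i ⊓ V j)).hom (g i j) = 1) {U : Z.Opens} {m m' : Γ(L, U)} {y : Γ(Yt, c ⁻¹ᵁ U)}
    (h : IsVal c e m y)
    (hm : m' - m ∈ (RingHom.ker (c.app U).hom) • (⊤ : Submodule Γ(Z, U) Γ(L, U))) : IsVal c e m' y := by
  have key : ∀ x ∈ (RingHom.ker (c.app U).hom) • (⊤ : Submodule Γ(Z, U) Γ(L, U)), IsVal c e x 0 := by
    intro x hx
    refine Submodule.smul_induction_on hx (fun r hr n _ => ?_) (fun a b ha hb => ?_)
    · obtain ⟨z, hz⟩ := exists_isVal hV he hg hgc n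
      have := hz.smul he r
      rwa [show (c.app U).hom r = 0 from hr, zero_mul] at this
    · have := ha.add he hb
      rwa [add_zero] at this
  have := h.add he (key _ hm)
  rwa [add_zero, add_sub_cancel] at this

end Groth.Agent.Etdl.H118.SecAff
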