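import Groth.Agent.Etdl.H118.TopFin
import Groth.Agent.Etdl.H118.SecAff
import Groth.Agent.Etdl.H146.AffineOpen

/-!
# A proper curve as the union of an affine open and of a neighbourhood of a principal divisor

`exists_param`: `P` proper over an algebraically closed field, `Y` a closed subscheme finite over the field with
dense complement `X` smooth of relative dimension one.  There are an affine dense open `W ⊇ Y`, an open `O ⊆ X`
with `W ⊔ O = ⊤` and a function `ϖ` on `O` whose nonvanishing locus is `O ⊓ W`.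
-/

set_option autoImplicit false
universe u

open CategoryTheory CategoryTheory.Limits AlgebraicGeometry TopologicalSpace Opposite

namespace Groth.Agent.Etdl.H118.Param

open Groth.Agent.Fdesc.LocGen Groth.Agent.Etdl.H118.SecAff

/-- Prime avoidance for points: a function in `J` not vanishing at finitely many points. -/
theorem exists_fun {Z : Scheme.{u}} {U : Z.Opens} (J : Ideal Γ(Z, U)) (S : Finset Z) (hS : ∀ w ∈ S, w ∈ U)
    (hJ : ∀ w ∈ S, ∃ b ∈ J, w ∈ Z.basicOpen b)
    (hne : ∀ w ∈ S, ∀ w' ∈ S, w ≠ w' → ∃ b : Γ(Z, U), w ∈ Z.basicOpen b ∧ w' ∉ Z.basicOpen b) :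
    ∃ b ∈ J, ∀ w ∈ S, w ∈ Z.basicOpen b := by
  classical
  induction S using Finset.induction_on with
  | empty => exact ⟨0, J.zero_mem, by simp⟩
  | insert w S hwS ih =>
    obtain ⟨s', hs', hgen⟩ := ih (fun x hx => hS x (Finset.mem_insert_of_mem hx))
      (fun x hx => hJ x (Finset.mem_insert_of_mem hx))
      (fun x hx y hy => hne x (Finset.mem_insert_of_mem hx) y (Finset.mem_insert_of_mem hy))
    have hw := Finset.mem_insert_self w S
    by_cases hs'w : w ∈ Z.basicOpen s'
    · refine ⟨s', hs', fun x hx => ?_⟩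
      obtain rfl | hx := Finset.mem_insert.mp hx
      · exact hs'w
      · exact hgen x hx
    · obtain ⟨b₀, hb₀, hwb₀⟩ := hJ w hw
      have hne' : ∀ x : S, ∃ b : Γ(Z, U), w ∈ Z.basicOpen b ∧ x.1 ∉ Z.basicOpen b := fun x =>
        hne w hw x.1 (Finset.mem_insert_of_mem x.2) (by rintro rfl; exact hwS x.2)
      choose b hb hb' using hne'
      let B : Γ(Z, U) := b₀ * ∏ x : S, b x
      have hwB : w ∈ Z.basicOpen B := by
        rw [mem_basicOpen_iff_germ (hS w hw)] at hwb₀ ⊢
        rw [map_mul, map_prod]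
        refine hwb₀.mul ?_
        refine Finset.prod_induction _ IsUnit (fun _ _ h h' => h.mul h') isUnit_one fun x _ => ?_
        exact (mem_basicOpen_iff_germ (hS w hw) _).mp (hb x)
      have hxB : ∀ x ∈ S, x ∉ Z.basicOpen B := by
        intro x hx hxB
        have h1 := ((mem_basicOpen_mul (hS x (Finset.mem_insert_of_mem hx))).mp hxB).2
        rw [← Finset.mul_prod_erase Finset.univ b (Finset.mem_univ ⟨x, hx⟩)] at h1
        exact hb' ⟨x, hx⟩ ((mem_basicOpen_mul (hS x (Finset.mem_insert_of_mem hx))).mp h1).1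
      have hneg : ∀ {x : Z} (hx : x ∈ U) {a : Γ(Z, U)}, x ∉ Z.basicOpen a → x ∉ Z.basicOpen (-a) := by
        intro x hx a ha h
        rw [mem_basicOpen_iff_germ hx] at ha h
        rw [map_neg] at h
        exact ha (by simpa using h.neg)
      refine ⟨s' + B, J.add_mem hs' (J.mul_mem_right _ hb₀), fun x hx => ?_⟩
      obtain rfl | hx := Finset.mem_insert.mp hx
      · by_contra hcon
        have h1 := not_mem_basicOpen_add (hS x hw) hcon (hneg (hS x hw) hs'w)
        rw [add_neg_cancel_comm] at h1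
        exact h1 hwB
      · by_contra hcon
        have hxW := hS x (Finset.mem_insert_of_mem hx)
        have h1 := not_mem_basicOpen_add hxW hcon (hneg hxW (hxB x hx))
        rw [add_neg_cancel_right] at h1
        exact h1 (hgen x hx)

/-- In an affine open, points which do not specialise are separated by functions. -/
theorem exists_separate {Z : Scheme.{u}} {U : Z.Opens} (hU : IsAffineOpen U) {w w' : Z} (hw : w ∈ U)
    (h : ¬ w' ⤳ w) : ∃ b : Γ(Z, U), w ∈ Z.basicOpen b ∧ w' ∉ Z.basicOpen b := by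
  rw [specializes_iff_forall_open] at h
  push Not at h
  obtain ⟨V, hV, hwV, hw'V⟩ := h
  obtain ⟨f, hf, hwf⟩ := hU.exists_basicOpen_le (V := ⟨V, hV⟩) ⟨w, hwV⟩ hw
  exact ⟨f, hwf, fun h => hw'V (hf h)⟩

/-- On a Noetherian separated scheme `X` of dimension at most one: near a finite set `E` of non-maximal points there
is a function with zero set `E`. -/
theorem exists_function {X : Scheme.{u}} [IsNoetherian X] [X.IsSeparated] (hdim : topologicalKrullDim X ≤ 1)
    {E : Set X} (hE : E.Finite) (hEgen : ∀ e ∈ E, ∃ z : X, z ⤳ e ∧ z ≠ e) :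
    ∃ (O : X.Opens) (ϖ : Γ(X, O)), E ⊆ (O : Set X) ∧ (X.basicOpen ϖ : Set X) = (O : Set X) \ E := by
  classical
  obtain ⟨U, hU, hEU, hUd, -, -⟩ := H146.AffineOpen.exists_affine_of_finite X hdim E hE
  have hMfin := TopFin.finite_generic (G := X)
  have hMU : ∀ w ∈ hMfin.toFinset, w ∈ U := fun w hw =>
    TopFin.mem_of_dense U.isOpen hUd (hMfin.mem_toFinset.mp hw)
  have hsep : ∀ w ∈ hMfin.toFinset, ∀ e : X, e ≠ w → ∃ b : Γ(X, U), w ∈ X.basicOpen b ∧ e ∉ X.basicOpen b := by
    intro w hw e he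
    exact exists_separate hU (hMU w hw) fun h => he (hMfin.mem_toFinset.mp hw e h)
  let J : Ideal Γ(X, U) :=
    { carrier := {b | ∀ e ∈ E, e ∉ X.basicOpen b}
      add_mem' := fun {a b} ha hb e he => not_mem_basicOpen_add (hEU he) (ha e he) (hb e he)
      zero_mem' := by
        intro e he h
        rw [X.basicOpen_zero] at h
        exact h
      smul_mem' := by
        intro c x hx e he h
        exact hx e he ((mem_basicOpen_mul (hEU he)).mp h).2 }
  obtain ⟨ϖ, hϖJ, hϖ⟩ := exists_fun J hMfin.toFinset hMU (by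
      intro w hw
      have hne : ∀ e : hE.toFinset, e.1 ≠ w := by
        rintro ⟨e, he⟩ h
        obtain ⟨z, hz, hze⟩ := hEgen e (hE.mem_toFinset.mp he)
        change e = w at h
        subst h
        exact hze (hMfin.mem_toFinset.mp hw z hz)
      choose b hb hb' using fun e : hE.toFinset => hsep w hw e.1 (hne e)
      refine ⟨∏ e : hE.toFinset, b e, ?_, ?_⟩
      · intro e he h
        rw [← Finset.mul_prod_erase Finset.univ b (Finset.mem_univ ⟨e, hE.mem_toFinset.mpr he⟩)] at h
        exact hb' ⟨e, hE.mem_toFinset.mpr he⟩ ((mem_basicOpen_mul (hEU he)).mp h).1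
      · rw [mem_basicOpen_iff_germ (hMU w hw), map_prod]
        refine Finset.prod_induction _ IsUnit (fun _ _ h h' => h.mul h') isUnit_one fun x _ => ?_
        exact (mem_basicOpen_iff_germ (hMU w hw) _).mp (hb x))
    (fun w hw w' _ hne => hsep w hw w' (Ne.symm hne))
  -- the zero set of `ϖ`
  have hUN : NoetherianSpace (U : Set X) := inferInstance
  have hdimU : topologicalKrullDim (U : Set X) ≤ 1 := (topologicalKrullDim_subspace_le X _).trans hdim
  have hsob : QuasiSober (U : Set X) := U.isOpen.isOpenEmbedding_subtypeVal.quasiSober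
  have hfin := TopFin.finite_of_no_generic (G := (U : Set X)) hdimU
    (C := {x : (U : Set X) | x.1 ∉ X.basicOpen ϖ})
    ((X.basicOpen ϖ).isOpen.isClosed_compl.preimage continuous_subtype_val) (by
      intro x hx
      have h1 : x.1 ∉ {p : X | ∀ z : X, z ⤳ p → z = p} := fun h =>
        hx (hϖ x.1 (hMfin.mem_toFinset.mpr h))
      simp only [Set.mem_ofPred_eq, not_forall] at h1
      obtain ⟨z, hz, hzx⟩ := h1
      refine ⟨⟨z, hz.mem_open U.isOpen x.2⟩, ?_, fun h => hzx (congrArg Subtype.val h)⟩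
      exact Topology.IsInducing.subtypeVal.specializes_iff.mp hz)
  let K : Set (U : Set X) := {x | x.1 ∉ X.basicOpen ϖ ∧ x.1 ∉ E}
  have hK : IsClosed K := by
    have h1 : K = ⋃ x ∈ K, {x} := by simp
    rw [h1]
    refine (hfin.1.subset fun x hx => hx.1).isClosed_biUnion fun x hx => hfin.2 x hx.1
  let O : X.Opens := ⟨Subtype.val '' Kᶜ, U.isOpen.isOpenEmbedding_subtypeVal.isOpenMap _ hK.isOpen_compl⟩
  have hOU : O ≤ U := by
    rintro _ ⟨x, -, rfl⟩
    exact x.2
  have hmemO : ∀ x : X, x ∈ O ↔ x ∈ U ∧ (x ∈ X.basicOpen ϖ ∨ x ∈ E) := by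
    intro x
    constructor
    · rintro ⟨y, hy, rfl⟩
      refine ⟨y.2, ?_⟩
      by_contra h
      push Not at h
      exact hy h
    · rintro ⟨hxU, h⟩
      refine ⟨⟨x, hxU⟩, fun hK => ?_, rfl⟩
      rcases h with h | h
      · exact hK.1 h
      · exact hK.2 h
  refine ⟨O, ores hOU ϖ, fun e he => (hmemO e).mpr ⟨hEU he, Or.inr he⟩, ?_⟩
  rw [basicOpen_ores]
  ext x
  change (x ∈ O ∧ x ∈ X.basicOpen ϖ) ↔ (x ∈ O ∧ x ∉ E)
  constructor
  · rintro ⟨h1, h2⟩
    exact ⟨h1, fun h3 => hϖJ x h3 h2⟩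
  · rintro ⟨h1, h2⟩
    exact ⟨h1, ((hmemO x).mp h1).2.resolve_right h2⟩

/-- A proper curve is the union of an affine open `W ⊇ Y` and an open `O ⊆ X` with a function `ϖ` on `O` whose
nonvanishing locus is `O ⊓ W`. -/
theorem exists_param (k : Type u) [Field k] [IsAlgClosed k]
    {P Y X : Scheme.{u}} (pbar : P ⟶ Spec (CommRingCat.of k)) [IsProper pbar]
    (i : Y ⟶ P) [IsClosedImmersion i] [IsFinite (i ≫ pbar)]
    (j : X ⟶ P) [IsOpenImmersion j] (hij : Set.range j.base = (Set.range i.base)ᶜ)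
    (hdense : Dense (Set.range j.base)) [SmoothOfRelativeDimension 1 (j ≫ pbar)] :
    ∃ (W O : P.Opens) (ϖ : Γ(P, O)), IsAffineOpen W ∧ Set.range i.base ⊆ (W : Set P) ∧ Dense (W : Set P) ∧
      W ⊔ O = ⊤ ∧ (O : Set P) ⊆ Set.range j.base ∧ P.basicOpen ϖ = O ⊓ W := by
  obtain ⟨W, hW, hYW, hWd, hWfin, hWcl⟩ := H146.AffineOpen.B_exists_affine k pbar i j hij hdense
  have hNl : IsLocallyNoetherian P := LocallyOfFiniteType.isLocallyNoetherian pbar
  have hcomp : CompactSpace P := QuasiCompact.compactSpace_of_compactSpace pbar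
  have hN : IsNoetherian P := { }
  have hsep : P.IsSeparated := by
    rw [Scheme.isSeparated_iff, ← terminal.comp_from pbar]
    infer_instance
  have hNX : IsLocallyNoetherian X := isLocallyNoetherian_of_isOpenImmersion j
  have : CompactSpace X := by
    rw [← isCompact_univ_iff, j.isOpenEmbedding.isEmbedding.isCompact_iff]
    exact NoetherianSpace.isCompact _
  have hNX' : IsNoetherian X := { }
  have hsepX : X.IsSeparated := by
    rw [Scheme.isSeparated_iff, ← terminal.comp_from j]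
    infer_instance
  have hdim := Groth.Agent.Lefpen.H716.CIGeom.topologicalKrullDim_le_of_smooth 1 (j ≫ pbar)
  have hWj : ∀ x ∉ W, x ∈ Set.range j.base := by
    intro x hx
    rw [hij]
    exact fun h => hx (hYW h)
  have hWXd : Dense ((j ⁻¹ᵁ W : X.Opens) : Set X) := hWd.preimage j.isOpenEmbedding.isOpenMap
  have hE : ((j ⁻¹ᵁ W : X.Opens) : Set X)ᶜ.Finite := by
    have h1 := hWfin.preimage (f := j) j.isOpenEmbedding.injective.injOn
    exact h1
  obtain ⟨O, ϖ, hEO, hϖ⟩ := exists_function (X := X) hdim hE (by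
    intro e he
    by_contra hcon
    push Not at hcon
    exact he (TopFin.mem_of_dense (j ⁻¹ᵁ W).isOpen hWXd hcon))
  have hO' : (((j ''ᵁ O : P.Opens) : Set P)) = j '' O := rfl
  refine ⟨W, j ''ᵁ O, (j.appIso O).inv ϖ, hW, hYW, hWd, ?_, ?_, ?_⟩
  · rw [eq_top_iff]
    intro x _
    by_cases hx : x ∈ W
    · exact Or.inl hx
    · obtain ⟨y, rfl⟩ := hWj x hx
      exact Or.inr ⟨y, hEO hx, rfl⟩
  · rw [hO']
    exact Set.image_subset_range _ _
  · rw [← Scheme.image_basicOpen]
    ext x
    constructor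
    · rintro ⟨y, hy, rfl⟩
      have h1 : y ∈ (X.basicOpen ϖ : Set X) := hy
      rw [hϖ] at h1
      refine ⟨⟨y, h1.1, rfl⟩, ?_⟩
      by_contra h
      exact h1.2 h
    · rintro ⟨⟨y, hy, rfl⟩, hyW⟩
      refine ⟨y, ?_, rfl⟩
      have h1 : y ∈ (O : Set X) \ ((j ⁻¹ᵁ W : X.Opens) : Set X)ᶜ := ⟨hy, fun h => h hyW⟩
      rw [← hϖ] at h1
      exact h1

end Groth.Agent.Etdl.H118.Param
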