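import Groth.Agent.Etdl.H118.SecAff

/-!
# Clearing the poles of a section of an invertible module

`s` a section of `L` over `W`, `O m` finitely many affine opens with functions `ϖ m` whose nonvanishing locus is
`O m ⊓ W`. For some `N` all the coefficients of `s` over `O m ⊓ W` multiplied by `ϖ m ^ N` extend to `O m`.
-/

set_option autoImplicit false
universe u

open CategoryTheory AlgebraicGeometry TopologicalSpace Opposite

namespace Groth.Agent.Etdl.H118.PoleExt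

open Groth.Agent.Fdesc.LocGen Groth.Agent.Etdl.H118.SecAff

variable {Z : Scheme.{u}} {L : Z.Modules}

theorem exists_extend_one {W O : Z.Opens} (hO : IsAffineOpen O) (ϖ : Γ(Z, O))
    (hϖ : Z.basicOpen ϖ = O ⊓ W) (a : Γ(Z, O ⊓ W)) :
    ∃ n : ℕ, ∀ N ≥ n, ∃ A : Γ(Z, O), ores inf_le_left A = ores (inf_le_left : O ⊓ W ≤ O) ϖ ^ N * a := by
  obtain ⟨n, A, hA⟩ := Fga.LimPic.exists_ores_eq_pow_mul hO ϖ hϖ.symm inf_le_left a
  refine ⟨n, fun N hN => ⟨ϖ ^ (N - n) * A, ?_⟩⟩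
  rw [map_mul, hA, map_pow, ← mul_assoc, ← pow_add, Nat.sub_add_cancel hN]

/-- Clearing poles, uniformly in a finite family. -/
theorem exists_extend {κ : Type u} [Finite κ] {W : Z.Opens} (O : κ → Z.Opens) (hO : ∀ m, IsAffineOpen (O m))
    (ϖ : ∀ m, Γ(Z, O m)) (hϖ : ∀ m, Z.basicOpen (ϖ m) = O m ⊓ W) (a : ∀ m, Γ(Z, O m ⊓ W)) :
    ∃ (N : ℕ) (A : ∀ m, Γ(Z, O m)), ∀ m,
      ores inf_le_left (A m) = ores (inf_le_left : O m ⊓ W ≤ O m) (ϖ m) ^ N * a m := by
  choose n hn using fun m => exists_extend_one (hO m) (ϖ m) (hϖ m) (a m)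
  obtain ⟨N, hN⟩ := (Set.finite_range n).bddAbove
  choose A hA using fun m => hn m N (hN ⟨m, rfl⟩)
  exact ⟨N, A, hA⟩

/-- Functions which are nonzerodivisors on all smaller affine opens: restriction to their nonvanishing locus is
injective. -/
theorem injective_ores_of_regular {O : Z.Opens} (ϖ : Γ(Z, O))
    (hreg : ∀ (U : Z.Opens), IsAffineOpen U → ∀ hU : U ≤ O, ores hU ϖ ∈ nonZeroDivisors Γ(Z, U))
    {T T' : Z.Opens} (hT : T ≤ O) (hT' : T' ≤ T) (hb : T ⊓ Z.basicOpen ϖ ≤ T') :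
    Function.Injective (ores hT' : Γ(Z, T) →+* Γ(Z, T')) := by
  rw [injective_iff_map_eq_zero]
  intro a ha
  have key : ∀ x : T, ∃ (U : Z.Opens), IsAffineOpen U ∧ x.1 ∈ U ∧ U ≤ T := by
    intro x
    obtain ⟨U, hU, hx, hUT⟩ := exists_isAffineOpen_mem_and_subset (X := Z) (x := x.1) (U := T) x.2
    exact ⟨U, hU, hx, hUT⟩
  choose U hU hx hUT using key
  refine ores_ext (fun x : T => U x) hUT (fun x hxT => Opens.mem_iSup.mpr ⟨⟨x, hxT⟩, hx _⟩) fun x => ?_
  rw [map_zero]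
  have h1 : ores (Z.basicOpen_le (ores ((hUT x).trans hT) ϖ)) (ores (hUT x) a) = 0 := by
    have h2 : Z.basicOpen (ores ((hUT x).trans hT) ϖ) ≤ T' := by
      rw [basicOpen_ores]
      exact le_trans (inf_le_inf_right _ (hUT x)) hb
    rw [ores_ores, ← ores_ores hT' h2, ha, map_zero]
  have hloc := (hU x).isLocalization_basicOpen (ores ((hUT x).trans hT) ϖ)
  obtain ⟨⟨_, n, rfl⟩, hn⟩ := (IsLocalization.map_eq_zero_iff
    (Submonoid.powers (ores ((hUT x).trans hT) ϖ)) Γ(Z, Z.basicOpen (ores ((hUT x).trans hT) ϖ))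
    (ores (hUT x) a)).mp h1
  exact (mul_right_mem_nonZeroDivisors_eq_zero_iff (pow_mem (hreg _ (hU x) _) n)).mp
    ((mul_comm _ _).trans hn)

end Groth.Agent.Etdl.H118.PoleExt
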