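import Groth.Agent.Etdl.H118.Coef
import Groth.Agent.Etdl.H118.PoleExt
import Groth.Agent.Etdl.H118.FinReg
import Groth.Agent.Etdl.H118.FibreFin
import Groth.Agent.Etdl.H118.Param
import Groth.Agent.Etdl.H157.SplitP

/-!
# GEN: the class of a cocycle on `P_T` is locally a difference of divisors of sections (S3733)

Part 1: over an affine base `T`, functions `A a`, `B a` on an open cover of `P_T` refining the cover of the cocycle
with `A a * B b = u a b * A b * B a`, `A a = B a` on `Y_T`, and finite zero sets on the fibre over the given point.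
-/

set_option autoImplicit false
universe u

open CategoryTheory CategoryTheory.Limits AlgebraicGeometry TopologicalSpace Opposite

namespace Groth.Agent.Etdl.H118.Core

open Groth.Agent.Fdesc.LocGen Groth.Agent.Etdl.H118.SecAff Groth.Agent.Etdl.H118.FibreFin

variable {k : Type u} [Field k] {P Y X : Scheme.{u}} {pbar : P ⟶ Spec (CommRingCat.of k)}
  {i : Y ⟶ P} {j : X ⟶ P}

/-- The local data produced by GEN over an affine base. -/
structure Data {T : Over (Spec (CommRingCat.of k))} (c : H494.Cocycle pbar i T) (j : X ⟶ P) where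
  /-- index set -/
  ι : Type u
  /-- cover -/
  O : ι → (H494.PT pbar T).Opens
  cover : ∀ x : H494.PT pbar T, ∃ a, x ∈ O a
  /-- refinement -/
  r : ι → c.A
  hr : ∀ a, O a ≤ c.V (r a)
  /-- numerators -/
  A : ∀ a, Γ(H494.PT pbar T, O a)
  /-- denominators -/
  B : ∀ a, Γ(H494.PT pbar T, O a)
  rel : ∀ a b, ores inf_le_left (A a) * ores inf_le_right (B b) =
    ores (le_inf (inf_le_left.trans (hr a)) (inf_le_right.trans (hr b))) (c.u (r a) (r b)) *
      (ores inf_le_right (A b) * ores (inf_le_left : O a ⊓ O b ≤ O a) (B a))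
  ratioA : ∀ a b, ∃ v : Γ(H494.PT pbar T, O a ⊓ O b), IsUnit v ∧
    ores inf_le_left (A a) = v * ores inf_le_right (A b)
  ratioB : ∀ a b, ∃ v : Γ(H494.PT pbar T, O a ⊓ O b), IsUnit v ∧
    ores inf_le_left (B a) = v * ores inf_le_right (B b)
  suppA : ∀ a (x : H494.PT pbar T), x ∈ O a → pullback.snd T.hom pbar x ∉ Set.range j.base →
    x ∈ (H494.PT pbar T).basicOpen (A a)
  eqY : ∀ a, ((H494.yinc pbar i T).app (O a)).hom (A a) = ((H494.yinc pbar i T).app (O a)).hom (B a)

section regular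

variable (pbar j)

/-- The pull-back to `P_T` of a function on an open `O ⊆ X` whose zeros miss a dense open `W` is a nonzerodivisor. -/
theorem regular_pull [IsProper pbar] [IsOpenImmersion j] [SmoothOfRelativeDimension 1 (j ≫ pbar)]
    (T : Over (Spec (CommRingCat.of k))) {W O : P.Opens} (ϖ : Γ(P, O)) (hWd : Dense (W : Set P))
    (hOj : (O : Set P) ⊆ Set.range j.base) (hϖ : P.basicOpen ϖ = O ⊓ W)
    {W' : (H494.PT pbar T).Opens} (hW' : W' ≤ pullback.snd T.hom pbar ⁻¹ᵁ O) :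
    ores hW' (((pullback.snd T.hom pbar).app O).hom ϖ) ∈ nonZeroDivisors Γ(H494.PT pbar T, W') := by
  have h0 := smoothOfRelativeDimension_isStableUnderBaseChange.{u} 1
  let q := pullback.snd T.hom pbar
  let f : pullback T.hom (j ≫ pbar) ⟶ T.left := pullback.fst _ _
  have hf : SmoothOfRelativeDimension 1 f :=
    MorphismProperty.pullback_fst (P := @SmoothOfRelativeDimension 1) _ _ inferInstance
  let ϖT : Γ(H494.PT pbar T, q ⁻¹ᵁ O) := (q.app O).hom ϖ
  have hbT : (H494.PT pbar T).basicOpen ϖT = q ⁻¹ᵁ (O ⊓ W) := by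
    simp only [ϖT]
    rw [basicOpen_app, hϖ]
  let h' : Γ(pullback T.hom (j ≫ pbar), jT pbar j T ⁻¹ᵁ (q ⁻¹ᵁ O)) := ((jT pbar j T).app (q ⁻¹ᵁ O)).hom ϖT
  have hfin : ∀ s : T.left, {x : ↥(pullback T.hom (j ≫ pbar)) | x ∈ jT pbar j T ⁻¹ᵁ (q ⁻¹ᵁ O) ∧ f x = s ∧
      x ∉ (pullback T.hom (j ≫ pbar)).basicOpen h'}.Finite := by
    intro s
    have h1 := finite_fibre pbar j s (C := ((q ⁻¹ᵁ W : (H494.PT pbar T).Opens) : Set (H494.PT pbar T))ᶜ)
      (q ⁻¹ᵁ W).isOpen.isClosed_compl (fun η hη hcon => hcon (snd_mem_of_dense pbar hη hWd))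
    refine Set.Finite.of_finite_image (f := jT pbar j T) (h1.subset ?_)
      (jT pbar j T).isOpenEmbedding.injective.injOn
    rintro _ ⟨x, ⟨hxO, hxs, hxh⟩, rfl⟩
    refine ⟨?_, hOj hxO, ?_⟩
    · rw [← Scheme.Hom.comp_apply, jT_fst]
      exact hxs
    · intro hW
      apply hxh
      simp only [h']
      rw [basicOpen_app]
      change jT pbar j T x ∈ (H494.PT pbar T).basicOpen ϖT
      rw [hbT]
      exact ⟨hxO, hW⟩
  have hreg := FinReg.mem_nonZeroDivisors (f := f) h' hfin (W := jT pbar j T ⁻¹ᵁ W')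
    ((jT pbar j T).preimage_mono hW')
  have hle : W' ≤ (jT pbar j T).opensRange := by
    intro x hx
    exact range_jT pbar j T x (hOj (hW' hx))
  have hiso : IsIso ((jT pbar j T).app W') := (jT pbar j T).isIso_app W' hle
  have hinj : Function.Injective ((jT pbar j T).app W').hom :=
    (ConcreteCategory.bijective_of_isIso ((jT pbar j T).app W')).1
  have heq : ores ((jT pbar j T).preimage_mono hW') h' = ((jT pbar j T).app W').hom (ores hW' ϖT) :=
    (app_ores hW' ϖT).symm
  rw [heq] at hreg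
  rw [mem_nonZeroDivisors_iff_right]
  intro a ha
  apply hinj
  rw [map_zero]
  have h2 := congrArg ((jT pbar j T).app W').hom ha
  rw [map_mul, map_zero] at h2
  exact (mul_right_mem_nonZeroDivisors_eq_zero_iff hreg).mp h2

end regular

theorem mem_basicOpen_of_ores {Z : Scheme.{u}} {U T : Z.Opens} {h : T ≤ U} {a : Γ(Z, U)} {x : Z}
    (hx : x ∈ Z.basicOpen (ores h a)) : x ∈ Z.basicOpen a := by
  rw [basicOpen_ores] at hx
  exact hx.2

theorem mem_basicOpen_ores {Z : Scheme.{u}} {U T : Z.Opens} (h : T ≤ U) {a : Γ(Z, U)} {x : Z} (hxT : x ∈ T)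
    (hx : x ∈ Z.basicOpen a) : x ∈ Z.basicOpen (ores h a) := by
  rw [basicOpen_ores]
  exact ⟨hxT, hx⟩

theorem mem_basicOpen_pow {Z : Scheme.{u}} {U : Z.Opens} {a : Γ(Z, U)} {x : Z} (hxU : x ∈ U)
    (hx : x ∈ Z.basicOpen a) (n : ℕ) : x ∈ Z.basicOpen (a ^ n) := by
  rw [mem_basicOpen_iff_germ hxU] at hx ⊢
  rw [map_pow]
  exact hx.pow n

section main

variable [IsProper pbar] [IsClosedImmersion i] [IsOpenImmersion j] [SmoothOfRelativeDimension 1 (j ≫ pbar)]

omit [IsProper pbar] [IsClosedImmersion i] [IsOpenImmersion j] [SmoothOfRelativeDimension 1 (j ≫ pbar)] in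
theorem mem_range_yinc {T : Over (Spec (CommRingCat.of k))} {x : H494.PT pbar T}
    (hx : pullback.snd T.hom pbar x ∈ Set.range i) : x ∈ Set.range (H494.yinc pbar i T) := by
  obtain ⟨y, hy⟩ := hx
  obtain ⟨z, hz, -⟩ := Scheme.Pullback.exists_preimage_pullback (f := pullback.snd T.hom pbar) (g := i) x y hy.symm
  exact ⟨z, hz⟩

omit [IsProper pbar] [IsClosedImmersion i] [IsOpenImmersion j] [SmoothOfRelativeDimension 1 (j ≫ pbar)] in
theorem snd_yinc {T : Over (Spec (CommRingCat.of k))} (y : ↥(pullback (pullback.snd T.hom pbar) i)) :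
    pullback.snd T.hom pbar (H494.yinc pbar i T y) ∈ Set.range i := by
  refine ⟨pullback.snd (pullback.snd T.hom pbar) i y, ?_⟩
  rw [← Scheme.Hom.comp_apply, ← Scheme.Hom.comp_apply, pullback.condition]

theorem exists_data (hij : Set.range j.base = (Set.range i.base)ᶜ) (hdense : Dense (Set.range j.base))
    {W O : P.Opens} (ϖ : Γ(P, O)) (hW : IsAffineOpen W)
    (hWd : Dense (W : Set P)) (hWO : W ⊔ O = ⊤) (hOj : (O : Set P) ⊆ Set.range j.base)
    (hϖ : P.basicOpen ϖ = O ⊓ W) {T : Over (Spec (CommRingCat.of k))} [IsAffine T.left]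
    (c : H494.Cocycle pbar i T) (t : T.left) :
    ∃ D : Data c j,
      (∀ a (x : H494.PT pbar T), x ∈ D.O a → pullback.snd T.hom pbar x ∈ W →
        x ∈ (H494.PT pbar T).basicOpen (D.B a)) ∧
      (∀ η ∈ GenFib (pullback.fst T.hom pbar) t, ∀ a, η ∈ D.O a → η ∈ (H494.PT pbar T).basicOpen (D.A a)) := by
  classical
  let Z := H494.PT pbar T
  let q : Z ⟶ P := pullback.snd T.hom pbar
  have hTaff : IsAffineHom T.hom := inferInstance
  have hq : IsAffineHom q := MorphismProperty.pullback_snd (P := @IsAffineHom) _ _ inferInstance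
  have hp : IsProper (pullback.fst T.hom pbar) := MorphismProperty.pullback_fst (P := @IsProper) _ _ inferInstance
  have hZc : CompactSpace Z := QuasiCompact.compactSpace_of_compactSpace (pullback.fst T.hom pbar)
  let WT : Z.Opens := q ⁻¹ᵁ W
  let OT : Z.Opens := q ⁻¹ᵁ O
  let ϖT : Γ(Z, OT) := (q.app O).hom ϖ
  have hWT : IsAffineOpen WT := hW.preimage q
  have hbT : Z.basicOpen ϖT = OT ⊓ WT := by
    change Z.basicOpen ((q.app O).hom ϖ) = q ⁻¹ᵁ (O ⊓ W)
    rw [basicOpen_app, hϖ]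
  have hreg : ∀ {W' : Z.Opens} (hW' : W' ≤ OT), ores hW' ϖT ∈ nonZeroDivisors Γ(Z, W') :=
    fun hW' => regular_pull pbar j T ϖ hWd hOj hϖ hW'
  have hfin := finite_genFib (pullback.fst T.hom pbar) t
  have hgenj : ∀ η ∈ GenFib (pullback.fst T.hom pbar) t, q η ∈ Set.range j := fun η hη =>
    snd_mem_of_dense pbar hη (U := j.opensRange) hdense
  have hgenW : ∀ η ∈ GenFib (pullback.fst T.hom pbar) t, η ∈ WT := fun η hη => snd_mem_of_dense pbar hη hWd
  obtain ⟨f, hf1, hf2, hf3⟩ := Coef.exists_coef (H494.yinc pbar i T) c.V c.cover c.u c.isUnit c.one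
    c.cocycle hWT hfin.toFinset (fun η hη => hgenW η (hfin.mem_toFinset.mp hη))
    (fun η hη hcon => by
      obtain ⟨y, rfl⟩ := hcon
      have h1 : pullback.snd T.hom pbar (H494.yinc pbar i T y) ∈ Set.range j.base :=
        hgenj _ (hfin.mem_toFinset.mp hη)
      rw [hij] at h1
      exact h1 (snd_yinc y))
    (fun w hw w' hw' h => (hfin.mem_toFinset.mp hw).2 w' (hfin.mem_toFinset.mp hw').1 h)
  -- a finite cover of the complement of `WT`
  have hcov : ∀ x ∈ ((WT : Set Z))ᶜ, ∃ (a : c.A) (U : Z.Opens), IsAffineOpen U ∧ x ∈ U ∧ U ≤ OT ∧ U ≤ c.V a := by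
    intro x hx
    have hxO : x ∈ OT := by
      have h1 : q x ∈ W ⊔ O := by rw [hWO]; trivial
      exact h1.resolve_left hx
    obtain ⟨a, ha⟩ := c.cover x
    obtain ⟨U, hU, hxU, hUle⟩ := exists_isAffineOpen_mem_and_subset (X := Z) (x := x) (U := OT ⊓ c.V a) ⟨hxO, ha⟩
    exact ⟨a, U, hU, hxU, hUle.trans inf_le_left, hUle.trans inf_le_right⟩
  choose aa U hU hxU hUO hUV using hcov
  obtain ⟨F, hF⟩ := (WT.isOpen.isClosed_compl.isCompact).elim_nhds_subcover' (fun x hx => (U x hx : Set Z))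
    (fun x hx => (U x hx).isOpen.mem_nhds (hxU x hx))
  let κ : Type u := {x // x ∈ F}
  let UU : κ → Z.Opens := fun m => U m.1.1 m.1.2
  have hUUO : ∀ m, UU m ≤ OT := fun m => hUO m.1.1 m.1.2
  let am : κ → c.A := fun m => aa m.1.1 m.1.2
  have hUUV : ∀ m, UU m ≤ c.V (am m) := fun m => hUV m.1.1 m.1.2
  obtain ⟨N, Am, hAm⟩ := PoleExt.exists_extend (κ := κ) (W := WT) UU (fun m => hU m.1.1 m.1.2)
    (fun m => ores (hUUO m) ϖT) (fun m => by
      rw [basicOpen_ores, hbT]
      exact le_antisymm (le_inf inf_le_left (inf_le_right.trans inf_le_right))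
        (le_inf inf_le_left (le_inf (inf_le_left.trans (hUUO m)) inf_le_right)))
    (fun m => ores (le_inf inf_le_right (inf_le_left.trans (hUUV m)) : UU m ⊓ WT ≤ WT ⊓ c.V (am m)) (f (am m)))
  let OO : c.A ⊕ κ → Z.Opens := Sum.elim (fun a => WT ⊓ c.V a) UU
  let r : c.A ⊕ κ → c.A := Sum.elim id am
  have hr : ∀ α, OO α ≤ c.V (r α) := by
    rintro (a | m)
    · exact inf_le_right
    · exact hUUV m
  let A : ∀ α, Γ(Z, OO α) := fun α => match α with
    | .inl a => f a
    | .inr m => Am m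
  let B : ∀ α, Γ(Z, OO α) := fun α => match α with
    | .inl a => 1
    | .inr m => ores (hUUO m) ϖT ^ N
  have g1 : ∀ α, ores (inf_le_left : OO α ⊓ WT ≤ OO α) (A α) = ores inf_le_left (B α) *
      ores (le_inf inf_le_right (inf_le_left.trans (hr α))) (f (r α)) := by
    rintro (a | m)
    · change ores _ (f a) = ores _ (1 : Γ(Z, WT ⊓ c.V a)) * ores _ (f a)
      rw [map_one, one_mul]
    · exact (hAm m).trans (congrArg (· * _)
        (map_pow (ores (inf_le_left : UU m ⊓ WT ≤ UU m)) (ores (hUUO m) ϖT) N).symm)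
  have g2 : ∀ α (T' : Z.Opens), T' ≤ OO α → Function.Injective
      (ores (inf_le_left : T' ⊓ WT ≤ T') : Γ(Z, T') →+* Γ(Z, T' ⊓ WT)) := by
    rintro (a | m) T' hT'
    · have h1 : T' ≤ T' ⊓ WT := le_inf le_rfl (hT'.trans inf_le_left)
      intro x y hxy
      have h2 := congrArg (ores h1) hxy
      rw [ores_ores, ores_ores, ores_refl, ores_refl] at h2
      exact h2
    · refine PoleExt.injective_ores_of_regular ϖT (fun U' _ hU' => hreg hU') (hT'.trans (hUUO m)) inf_le_left ?_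
      rw [hbT]
      exact le_inf inf_le_left (inf_le_right.trans inf_le_right)
  have g3 : ∀ α (T' : Z.Opens) (h : T' ≤ OO α), ores h (B α) ∈ nonZeroDivisors Γ(Z, T') := by
    rintro (a | m) T' hT'
    · change ores (U := WT ⊓ c.V a) (V := T') hT' (1 : Γ(Z, WT ⊓ c.V a)) ∈ _
      rw [map_one]
      exact one_mem _
    · change ores (U := UU m) (V := T') hT' (ores (hUUO m) ϖT ^ N) ∈ _
      rw [map_pow, ores_ores]
      exact pow_mem (hreg _) N
  have hunit : ∀ {T' : Z.Opens} (h : T' ≤ OT), T' ≤ WT → IsUnit (ores h ϖT) := by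
    intro T' h h'
    have h1 : T' ≤ Z.basicOpen ϖT := by
      rw [hbT]
      exact le_inf h h'
    rw [← ores_ores (Z.basicOpen_le ϖT) h1]
    exact (Pi1C.ZeroScheme.isUnit_ores_basicOpen ϖT).map _
  have ratioB : ∀ α β, ∃ v : Γ(Z, OO α ⊓ OO β), IsUnit v ∧
      ores inf_le_left (B α) = v * ores inf_le_right (B β) := by
    rintro (a | m) (b | n)
    · refine ⟨1, isUnit_one, ?_⟩
      change ores _ (1 : Γ(Z, WT ⊓ c.V a)) = 1 * ores _ (1 : Γ(Z, WT ⊓ c.V b))
      rw [map_one, map_one, one_mul]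
    · have h1 : (WT ⊓ c.V a) ⊓ UU n ≤ OT := inf_le_right.trans (hUUO n)
      obtain ⟨v, hv⟩ := (hunit h1 (inf_le_left.trans inf_le_left)).pow N
      refine ⟨(v⁻¹ : Γ(Z, (WT ⊓ c.V a) ⊓ UU n)ˣ).1, (v⁻¹).isUnit, ?_⟩
      change ores _ (1 : Γ(Z, WT ⊓ c.V a)) = _ * ores _ (ores (hUUO n) ϖT ^ N)
      rw [map_one, map_pow, ores_ores]
      change _ = _ * ores h1 ϖT ^ N
      rw [← hv]
      exact (v.inv_mul).symm
    · have h1 : UU m ⊓ (WT ⊓ c.V b) ≤ OT := inf_le_left.trans (hUUO m)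
      refine ⟨ores h1 ϖT ^ N, (hunit h1 (inf_le_right.trans inf_le_left)).pow N, ?_⟩
      change ores _ (ores (hUUO m) ϖT ^ N) = _ * ores _ (1 : Γ(Z, WT ⊓ c.V b))
      rw [map_one, mul_one, map_pow, ores_ores]
      rfl
    · refine ⟨1, isUnit_one, ?_⟩
      change ores _ (ores (hUUO m) ϖT ^ N) = 1 * ores _ (ores (hUUO n) ϖT ^ N)
      rw [map_pow, map_pow, ores_ores, ores_ores, one_mul]
  have rel : ∀ α β, ores inf_le_left (A α) * ores inf_le_right (B β) =
      ores (le_inf (inf_le_left.trans (hr α)) (inf_le_right.trans (hr β))) (c.u (r α) (r β)) *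
        (ores inf_le_right (A β) * ores (inf_le_left : OO α ⊓ OO β ≤ OO α) (B α)) := by
    intro α β
    apply g2 α (OO α ⊓ OO β) inf_le_left
    simp only [map_mul, ores_ores]
    have h1 := congrArg (ores (inf_le_inf_right WT inf_le_left :
      (OO α ⊓ OO β) ⊓ WT ≤ OO α ⊓ WT)) (g1 α)
    have h2 := congrArg (ores (inf_le_inf_right WT inf_le_right :
      (OO α ⊓ OO β) ⊓ WT ≤ OO β ⊓ WT)) (g1 β)
    simp only [map_mul, ores_ores] at h1 h2
    rw [h1, h2, hf1 (r α) (r β) ((OO α ⊓ OO β) ⊓ WT) inf_le_right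
      (inf_le_left.trans (inf_le_left.trans (hr α))) (inf_le_left.trans (inf_le_right.trans (hr β)))]
    ring
  refine ⟨{ ι := c.A ⊕ κ
            O := OO
            cover := ?_
            r := r
            hr := hr
            A := A
            B := B
            rel := rel
            ratioA := ?_
            ratioB := ratioB
            suppA := ?_
            eqY := ?_ }, ?_, ?_⟩
  · intro x
    by_cases hx : x ∈ WT
    · obtain ⟨a, ha⟩ := c.cover x
      exact ⟨.inl a, hx, ha⟩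
    · obtain ⟨m, hm⟩ := Set.mem_iUnion.mp (hF hx)
      obtain ⟨hmF, hxm⟩ := Set.mem_iUnion.mp hm
      exact ⟨.inr ⟨m, hmF⟩, hxm⟩
  · intro α β
    obtain ⟨v, hv, hvB⟩ := ratioB α β
    refine ⟨ores (le_inf (inf_le_left.trans (hr α)) (inf_le_right.trans (hr β))) (c.u (r α) (r β)) * v,
      ((c.isUnit _ _).map _).mul hv, ?_⟩
    have h1 := rel α β
    rw [hvB] at h1
    have h2 := g3 β (OO α ⊓ OO β) inf_le_right
    rw [← sub_eq_zero]
    refine (mul_right_mem_nonZeroDivisors_eq_zero_iff h2).mp ?_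
    rw [sub_mul, h1]
    ring
  · rintro (a | m) x hx hxj
    · have hxi : pullback.snd T.hom pbar x ∈ Set.range i.base := by
        by_contra h
        rw [hij] at hxj
        exact hxj h
      obtain ⟨y, rfl⟩ := mem_range_yinc hxi
      have h1 : y ∈ (pullback (pullback.snd T.hom pbar) i).basicOpen
          (((H494.yinc pbar i T).app (WT ⊓ c.V a)).hom (f a)) := by
        rw [hf2 a]
        exact mem_basicOpen_of_isUnit isUnit_one hx
      rw [basicOpen_app] at h1
      exact h1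
    · exact absurd (hOj (hUUO m hx)) hxj
  · rintro (a | m)
    · change ((H494.yinc pbar i T).app (WT ⊓ c.V a)).hom (f a) = ((H494.yinc pbar i T).app (WT ⊓ c.V a)).hom 1
      rw [hf2 a, map_one]
    · have hemp : (H494.yinc pbar i T) ⁻¹ᵁ (UU m) = ⊥ := by
        rw [eq_bot_iff]
        intro y hy
        have h1 : pullback.snd T.hom pbar (H494.yinc pbar i T y) ∈ Set.range j.base := hOj (hUUO m hy)
        rw [hij] at h1
        exact (h1 (snd_yinc y)).elim
      have hsub : Subsingleton Γ(pullback (pullback.snd T.hom pbar) i, (H494.yinc pbar i T) ⁻¹ᵁ (UU m)) := by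
        rw [hemp]
        infer_instance
      exact hsub.elim _ _
  · rintro (a | m) x hx hxW
    · exact mem_basicOpen_of_isUnit isUnit_one hx
    · refine mem_basicOpen_pow hx (mem_basicOpen_ores _ hx ?_) N
      rw [hbT]
      exact ⟨hUUO m hx, hxW⟩
  · rintro η hη (a | m) hx
    · exact hf3 η (hfin.mem_toFinset.mpr hη) a hx.2
    · have hηW : η ∈ WT := hgenW η hη
      have hx' : η ∈ UU m := hx
      have h1 : η ∈ Z.basicOpen (ores (inf_le_left : UU m ⊓ WT ≤ UU m) (Am m)) := by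
        rw [hAm m]
        have hx2 : η ∈ UU m ⊓ WT := ⟨hx', hηW⟩
        refine (mem_basicOpen_mul hx2).mpr ⟨?_, ?_⟩
        · refine mem_basicOpen_pow hx2 (mem_basicOpen_ores _ hx2 (mem_basicOpen_ores _ hx' ?_)) N
          rw [hbT]
          exact ⟨hUUO m hx', hηW⟩
        · exact mem_basicOpen_ores _ hx2 (hf3 η (hfin.mem_toFinset.mpr hη) (am m) (hUUV m hx'))
      exact mem_basicOpen_of_ores h1

end main

end Groth.Agent.Etdl.H118.Core
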