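import Groth.Agent.Etdl.H118.Core
import Groth.Agent.Etdl.H157.Pencil

/-!
# GEN: the class of a cocycle on `P_T` is locally a difference of divisors of sections (S3733), final form
-/

set_option autoImplicit false
universe u

open CategoryTheory CategoryTheory.Limits AlgebraicGeometry TopologicalSpace Opposite

namespace Groth.Agent.Etdl.H118.Gen

open Groth.Agent.Fdesc.LocGen Groth.Agent.Etdl.H118.SecAff Groth.Agent.Etdl.H118.FibreFin
open Groth.Agent.Etdl.H118.Core
open Groth.Agent.Etdl.H494 (PT PTmap XS Cocycle IsEqn yinc)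

section pull

variable {S P Y : Scheme.{u}} {pbar : P ⟶ S} {i : Y ⟶ P}

variable (pbar) in
theorem PTmap_comp {T T' T'' : Over S} (g : T' ⟶ T) (g' : T'' ⟶ T') :
    PTmap pbar (g' ≫ g) = PTmap pbar g' ≫ PTmap pbar g := by
  simp only [PTmap, Functor.map_comp, Over.comp_left]

/-- The base change of a cocycle is compatible with composition. -/
theorem pull_pull {T T' T'' : Over S} (c : Cocycle pbar i T) (g : T' ⟶ T) (g' : T'' ⟶ T') :
    (c.pull g).pull g' = c.pull (g' ≫ g) := by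
  have e := PTmap_comp pbar g g'
  simp only [Cocycle.pull, Cocycle.mk.injEq, true_and]
  refine ⟨?_, ?_⟩
  · rw [e]
    rfl
  · rw [e]
    refine heq_of_eq (funext fun a => funext fun b => ?_)
    exact H494.app_app_apply (PTmap pbar g') (PTmap pbar g) (c.V a ⊓ c.V b) (c.u a b)

end pull

variable {k : Type u} [Field k] {P Y X : Scheme.{u}} {pbar : P ⟶ Spec (CommRingCat.of k)}
  {i : Y ⟶ P} {j : X ⟶ P}

/-- Base change of the data. -/
noncomputable def pullData {T T' : Over (Spec (CommRingCat.of k))} {c : Cocycle pbar i T} (D : Data c j) (g : T' ⟶ T) :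
    Data (c.pull g) j where
  ι := D.ι
  O a := PTmap pbar g ⁻¹ᵁ D.O a
  cover x := D.cover (PTmap pbar g x)
  r := D.r
  hr a := (PTmap pbar g).preimage_mono (D.hr a)
  A a := ((PTmap pbar g).app (D.O a)).hom (D.A a)
  B a := ((PTmap pbar g).app (D.O a)).hom (D.B a)
  rel a b := by
    have h := congrArg ((PTmap pbar g).app (D.O a ⊓ D.O b)).hom (D.rel a b)
    simp only [map_mul, app_ores] at h
    exact h
  ratioA a b := by
    obtain ⟨v, hv, h⟩ := D.ratioA a b
    refine ⟨((PTmap pbar g).app (D.O a ⊓ D.O b)).hom v, hv.map _, ?_⟩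
    have h' := congrArg ((PTmap pbar g).app (D.O a ⊓ D.O b)).hom h
    simp only [map_mul, app_ores] at h'
    exact h'
  ratioB a b := by
    obtain ⟨v, hv, h⟩ := D.ratioB a b
    refine ⟨((PTmap pbar g).app (D.O a ⊓ D.O b)).hom v, hv.map _, ?_⟩
    have h' := congrArg ((PTmap pbar g).app (D.O a ⊓ D.O b)).hom h
    simp only [map_mul, app_ores] at h'
    exact h'
  suppA a x hx hxj := by
    rw [basicOpen_app]
    refine D.suppA a _ hx ?_
    rw [← Scheme.Hom.comp_apply, H494.PTmap_snd]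
    exact hxj
  eqY a := H494.yinc_pull i g (D.eqY a)

theorem triv_of_data {T : Over (Spec (CommRingCat.of k))} {c : Cocycle pbar i T} (D : Data c j) {m n : ℕ}
    {σ : Fin m → (T ⟶ XS pbar j)} {τ : Fin n → (T ⟶ XS pbar j)}
    (hσ : ∀ a, IsEqn σ (D.O a) (D.A a)) (hτ : ∀ a, IsEqn τ (D.O a) (D.B a)) : c.Triv σ τ := by
  refine ⟨D.ι, D.O, D.r, D.hr, D.A, D.B, D.cover, hσ, hτ, fun a b W ha hb => ?_, D.eqY⟩
  have h := congrArg (ores (le_inf ha hb)) (D.rel a b)
  simp only [map_mul, ores_ores] at h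
  exact h

section main

variable [IsProper pbar] [IsClosedImmersion i] [IsOpenImmersion j] [SmoothOfRelativeDimension 1 (j ≫ pbar)]

theorem gen_affine (hij : Set.range j.base = (Set.range i.base)ᶜ) (hdense : Dense (Set.range j.base))
    {W O : P.Opens} (ϖ : Γ(P, O)) (hW : IsAffineOpen W) (hiW : Set.range i.base ⊆ W)
    (hWd : Dense (W : Set P)) (hWO : W ⊔ O = ⊤) (hOj : (O : Set P) ⊆ Set.range j.base)
    (hϖ : P.basicOpen ϖ = O ⊓ W) {T : Over (Spec (CommRingCat.of k))} [IsAffine T.left]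
    (c : Cocycle pbar i T) (t : T.left) :
    ∃ (T' : Over (Spec (CommRingCat.of k))) (g : T' ⟶ T),
      Flat g.left ∧ LocallyOfFinitePresentation g.left ∧ t ∈ Set.range g.left ∧
      ∃ (m n : ℕ) (σ : Fin m → (T' ⟶ XS pbar j)) (τ : Fin n → (T' ⟶ XS pbar j)), (c.pull g).Triv σ τ := by
  obtain ⟨D, hB, hA⟩ := exists_data hij hdense ϖ hW hWd hWO hOj hϖ c t
  -- the zeros of the numerators
  let C : Set (PT pbar T) := {x | ∀ a, x ∈ D.O a → x ∉ (PT pbar T).basicOpen (D.A a)}
  have hC : IsClosed C := by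
    have h : C = (⋃ a, ((PT pbar T).basicOpen (D.A a) : Set (PT pbar T)))ᶜ := by
      ext x
      simp only [C, Set.mem_ofPred_eq, Set.mem_compl_iff, Set.mem_iUnion, not_exists]
      exact ⟨fun h a ha => h a ((PT pbar T).basicOpen_le _ ha) ha, fun h a _ ha => h a ha⟩
    rw [h]
    exact (isOpen_iUnion fun a => ((PT pbar T).basicOpen (D.A a)).isOpen).isClosed_compl
  have hCj : ∀ x ∈ C, pullback.snd T.hom pbar x ∈ Set.range j.base := by
    intro x hx
    by_contra hcon
    obtain ⟨a, ha⟩ := D.cover x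
    exact hx a ha (D.suppA a x ha hcon)
  have hCt : {x | pullback.fst T.hom pbar x = t ∧ x ∈ C}.Finite := by
    refine (finite_fibre pbar j t hC ?_).subset fun x hx => ⟨hx.1, hCj x hx.2, hx.2⟩
    intro η hη hηC
    obtain ⟨a, ha⟩ := D.cover η
    exact hηC a ha (hA η hη a ha)
  let I : (PT pbar T).IdealSheafData := Scheme.IdealSheafData.vanishingIdeal ⟨C, hC⟩
  have hI : (I.support : Set (PT pbar T)) = C := by
    simp only [I, Scheme.IdealSheafData.coe_support_vanishingIdeal]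
    rfl
  let V : T.left.Opens := ⟨{s | ((I.support : Set (PT pbar T)) ∩ pullback.fst T.hom pbar ⁻¹' {s}).Finite},
    H157.Pencil.isOpen_finite_fibres (pullback.fst T.hom pbar) I⟩
  have htV : t ∈ V := by
    change ((I.support : Set (PT pbar T)) ∩ pullback.fst T.hom pbar ⁻¹' {t}).Finite
    rw [hI]
    exact hCt.subset fun x hx => ⟨hx.2, hx.1⟩
  let T₁ : Over (Spec (CommRingCat.of k)) := Over.mk (V.ι ≫ T.hom)
  let g₁ : T₁ ⟶ T := Over.homMk V.ι rfl
  have hg₁ : g₁.left = V.ι := rfl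
  have hPT₁ : IsOpenImmersion (PTmap pbar g₁) :=
    MorphismProperty.of_isPullback (P := @IsOpenImmersion) (H157.SplitP.isPullback_PTmap (pbar := pbar) g₁).flip
      (inferInstanceAs (IsOpenImmersion V.ι))
  let D₁ := pullData D g₁
  have hfin₁ : ∀ s : T₁.left, {x : PT pbar T₁ | pullback.fst T₁.hom pbar x = s ∧
      ∀ a, x ∈ D₁.O a → x ∉ (PT pbar T₁).basicOpen (D₁.A a)}.Finite := by
    intro s
    have hs : ((I.support : Set (PT pbar T)) ∩ pullback.fst T.hom pbar ⁻¹' {V.ι s}).Finite := s.2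
    rw [hI] at hs
    refine Set.Finite.of_finite_image (f := PTmap pbar g₁) (hs.subset ?_)
      (PTmap pbar g₁).isOpenEmbedding.injective.injOn
    rintro _ ⟨x, ⟨hx1, hx2⟩, rfl⟩
    refine ⟨?_, ?_⟩
    · intro a ha hxa
      apply hx2 a ha
      change x ∈ (PT pbar T₁).basicOpen (((PTmap pbar g₁).app (D.O a)).hom (D.A a))
      rw [basicOpen_app]
      exact hxa
    · change pullback.fst T.hom pbar (PTmap pbar g₁ x) = V.ι s
      rw [← Scheme.Hom.comp_apply, H494.PTmap_fst, Scheme.Hom.comp_apply, hx1]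
      rfl
  -- splitting of the numerators
  obtain ⟨T₂, g₂, fl₂, fp₂, ht₂, m, ρ, hρ⟩ := H157.SplitP.split i hij T₁ (⟨t, htV⟩ : V.toScheme) D₁.O D₁.A D₁.cover
    (fun a b W' ha hb => by
      obtain ⟨v, hv, h⟩ := D₁.ratioA a b
      refine ⟨ores (le_inf ha hb) v, hv.map _, ?_⟩
      have h' := congrArg (ores (le_inf ha hb)) h
      simp only [map_mul, ores_ores] at h'
      exact h')
    (fun a y hy => by
      refine D₁.suppA a _ hy ?_
      rw [hij]
      exact fun hcon => hcon (snd_yinc y))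
    hfin₁
  obtain ⟨t₂, ht₂⟩ := ht₂
  let D₂ := pullData D₁ g₂
  have hB₂ : ∀ a (x : PT pbar T₂), x ∈ D₂.O a → pullback.snd T₂.hom pbar x ∈ W →
      x ∈ (PT pbar T₂).basicOpen (D₂.B a) := by
    intro a x hx hxW
    change x ∈ (PT pbar T₂).basicOpen (((PTmap pbar g₂).app (D₁.O a)).hom
      (((PTmap pbar g₁).app (D.O a)).hom (D.B a)))
    rw [basicOpen_app]
    change PTmap pbar g₂ x ∈ (PT pbar T₁).basicOpen (((PTmap pbar g₁).app (D.O a)).hom (D.B a))
    rw [basicOpen_app]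
    refine hB a _ hx ?_
    rw [← Scheme.Hom.comp_apply, H494.PTmap_snd, ← Scheme.Hom.comp_apply, H494.PTmap_snd]
    exact hxW
  -- splitting of the denominators
  obtain ⟨T₃, g₃, fl₃, fp₃, ht₃, n, τ, hτ⟩ := H157.SplitP.split i hij T₂ t₂ D₂.O D₂.B D₂.cover
    (fun a b W' ha hb => by
      obtain ⟨v, hv, h⟩ := D₂.ratioB a b
      refine ⟨ores (le_inf ha hb) v, hv.map _, ?_⟩
      have h' := congrArg (ores (le_inf ha hb)) h
      simp only [map_mul, ores_ores] at h'
      exact h')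
    (fun a y hy => hB₂ a _ hy (hiW (snd_yinc y)))
    (fun s => by
      have h1 := finite_fibre pbar j s
        (C := ((pullback.snd T₂.hom pbar ⁻¹ᵁ W : (PT pbar T₂).Opens) : Set (PT pbar T₂))ᶜ)
        (pullback.snd T₂.hom pbar ⁻¹ᵁ W).isOpen.isClosed_compl
        (fun η hη hcon => hcon (snd_mem_of_dense pbar hη hWd))
      refine h1.subset ?_
      rintro x ⟨hxs, hx⟩
      obtain ⟨a, ha⟩ := D₂.cover x
      have hxW : pullback.snd T₂.hom pbar x ∉ W := fun h => hx a ha (hB₂ a x ha h)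
      refine ⟨hxs, ?_, hxW⟩
      change pullback.snd T₂.hom pbar x ∈ Set.range j.base
      rw [hij]
      exact fun hcon => hxW (hiW hcon))
  obtain ⟨t₃, ht₃⟩ := ht₃
  let D₃ := pullData D₂ g₃
  have htriv : (((c.pull g₁).pull g₂).pull g₃).Triv (fun a => g₃ ≫ ρ a) τ :=
    triv_of_data D₃ (fun a => H157.SplitP.isEqn_pull g₃ (hρ a)) hτ
  rw [pull_pull, pull_pull] at htriv
  refine ⟨T₃, g₃ ≫ g₂ ≫ g₁, ?_, ?_, ⟨t₃, ?_⟩, m, n, _, _, htriv⟩
  · rw [Over.comp_left, Over.comp_left, hg₁]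
    infer_instance
  · rw [Over.comp_left, Over.comp_left, hg₁]
    infer_instance
  · rw [Over.comp_left, Over.comp_left, hg₁, Scheme.Hom.comp_apply, Scheme.Hom.comp_apply, ht₃, ht₂]
    rfl

end main

/-- GEN (the hypotheses are those of S3733). -/
theorem genStmt (k : Type u) [Field k] [IsAlgClosed k] {P Y X : Scheme.{u}} (pbar : P ⟶ Spec (CommRingCat.of k))
    (i : Y ⟶ P) (j : X ⟶ P) [IsProper pbar] [IsClosedImmersion i] [IsFinite (i ≫ pbar)] [IsOpenImmersion j]
    [SmoothOfRelativeDimension 1 (j ≫ pbar)]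
    (hij : Set.range j.base = (Set.range i.base)ᶜ) (hdense : Dense (Set.range j.base)) :
    H494.GenStmt pbar i j := by
  obtain ⟨W, O, ϖ, hW, hiW, hWd, hWO, hOj, hϖ⟩ := Param.exists_param k pbar i j hij hdense
  intro T c t
  obtain ⟨U, hU, htU, -⟩ := exists_isAffineOpen_mem_and_subset (X := T.left) (x := t) (U := ⊤) trivial
  let T₀ : Over (Spec (CommRingCat.of k)) := Over.mk (U.ι ≫ T.hom)
  let h₀ : T₀ ⟶ T := Over.homMk U.ι rfl
  have hh₀ : h₀.left = U.ι := rfl
  have hT₀ : IsAffine T₀.left := hU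
  obtain ⟨T', g, fl, fp, ⟨t', ht'⟩, m, n, σ, τ, htriv⟩ :=
    gen_affine hij hdense ϖ hW hiW hWd hWO hOj hϖ (c.pull h₀) (⟨t, htU⟩ : U.toScheme)
  rw [pull_pull] at htriv
  refine ⟨T', g ≫ h₀, ?_, ?_, ⟨t', ?_⟩, m, n, σ, τ, htriv⟩
  · rw [Over.comp_left, hh₀]
    infer_instance
  · rw [Over.comp_left, hh₀]
    infer_instance
  · rw [Over.comp_left, hh₀, Scheme.Hom.comp_apply, ht']
    rfl

end Groth.Agent.Etdl.H118.Gen
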