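import Mathlib.Topology.KrullDimension
import Mathlib.Topology.NoetherianSpace
import Mathlib.Topology.Sober

/-!
# Closed subsets without generic points in one-dimensional Noetherian spaces are finite
-/

set_option autoImplicit false
universe u

open TopologicalSpace

namespace Groth.Agent.Etdl.H118.TopFin

variable {G : Type u} [TopologicalSpace G]

theorem isClosed_singleton_of_specializes [T0Space G] (hdim : topologicalKrullDim G ≤ 1) {x z : G}
    (hz : z ⤳ x) (hzx : z ≠ x) : IsClosed ({x} : Set G) := by
  rw [← closure_subset_iff_isClosed]
  intro y hy
  rw [Set.mem_singleton_iff]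
  by_contra hyx
  have hxy : x ⤳ y := specializes_iff_mem_closure.mpr hy
  let c : G → IrreducibleCloseds G := fun a => ⟨closure {a}, isIrreducible_singleton.closure, isClosed_closure⟩
  have hlt : ∀ {a b : G}, b ⤳ a → b ≠ a → c a < c b := by
    intro a b hab hne
    refine lt_of_le_of_ne ?_ ?_
    · change closure {a} ⊆ closure {b}
      exact specializes_iff_closure_subset.mp hab
    · intro h
      have h' : closure {a} = closure {b} := congrArg (fun s : IrreducibleCloseds G => (s : Set G)) h
      apply hne
      have h2 : a ⤳ b := specializes_iff_closure_subset.mpr h'.ge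
      exact (hab.antisymm h2).eq
  let p : LTSeries (IrreducibleCloseds G) :=
    { length := 2
      toFun := ![c y, c x, c z]
      step := by
        intro i
        fin_cases i
        · exact hlt hxy (Ne.symm hyx)
        · exact hlt hz hzx }
  have h1 : ((2 : ℕ) : WithBot ℕ∞) ≤ topologicalKrullDim G := le_iSup (fun q : LTSeries (IrreducibleCloseds G) => (q.length : WithBot ℕ∞)) p
  have h2 := h1.trans hdim
  exact absurd h2 (by decide)

/-- A closed subset of a Noetherian sober space of dimension at most one which contains no maximal points is finite,
and all its points are closed. -/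
theorem finite_of_no_generic [T0Space G] [QuasiSober G] [NoetherianSpace G]
    (hdim : topologicalKrullDim G ≤ 1) {C : Set G} (hC : IsClosed C)
    (hgen : ∀ x ∈ C, ∃ z, z ⤳ x ∧ z ≠ x) : C.Finite ∧ ∀ x ∈ C, IsClosed ({x} : Set G) := by
  have hcl : ∀ x ∈ C, IsClosed ({x} : Set G) := by
    intro x hx
    obtain ⟨z, hz, hzx⟩ := hgen x hx
    exact isClosed_singleton_of_specializes hdim hz hzx
  refine ⟨?_, hcl⟩
  have hN : NoetherianSpace C := inferInstance
  have hsob : QuasiSober C := hC.isClosedEmbedding_subtypeVal.quasiSober
  have hfin : (irreducibleComponents C).Finite := NoetherianSpace.finite_irreducibleComponents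
  have : Finite (irreducibleComponents C) := hfin
  have hinj : Function.Injective (fun x : C =>
      (⟨irreducibleComponent x, irreducibleComponent_mem_irreducibleComponents x⟩ : irreducibleComponents C)) := by
    intro x y hxy
    have hxy' : irreducibleComponent x = irreducibleComponent y := congrArg Subtype.val hxy
    obtain ⟨ζ, hζ⟩ := QuasiSober.sober (isIrreducible_irreducibleComponent (x := x)) isClosed_irreducibleComponent
    have hζcl : IsClosed ({ζ} : Set C) := by
      have h1 := (hcl ζ.1 ζ.2).preimage (continuous_subtype_val (p := fun x => x ∈ C))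
      convert h1
      ext a
      exact Subtype.ext_iff
    have key : irreducibleComponent x = {ζ} := by
      rw [← hζ.def, hζcl.closure_eq]
    have hx : x ∈ ({ζ} : Set C) := by rw [← key]; exact mem_irreducibleComponent
    have hy : y ∈ ({ζ} : Set C) := by rw [← key, hxy']; exact mem_irreducibleComponent
    rw [Set.mem_singleton_iff] at hx hy
    rw [hx, hy]
  have := Finite.of_injective _ hinj
  exact Set.toFinite C

/-- The maximal points of a Noetherian sober space lie in every dense open subset. -/
theorem mem_of_dense [QuasiSober G] [NoetherianSpace G] {U : Set G} (hU : IsOpen U)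
    (hd : Dense U) {p : G} (hp : ∀ z : G, z ⤳ p → z = p) : p ∈ U := by
  obtain ⟨V, hV, hVne, hVle⟩ := NoetherianSpace.exists_isOpen_nonempty_subset_irreducibleComponent
    (irreducibleComponent p) (irreducibleComponent_mem_irreducibleComponents p)
  obtain ⟨ζ, hζ⟩ := QuasiSober.sober (isIrreducible_irreducibleComponent (x := p)) isClosed_irreducibleComponent
  have hζp : ζ = p := hp ζ (hζ.specializes mem_irreducibleComponent)
  obtain ⟨x, hxV, hxU⟩ := hd.inter_open_nonempty V hV hVne
  have h1 : ζ ⤳ x := hζ.specializes (hVle hxV)
  rw [← hζp]
  exact h1.mem_open hU hxU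

/-- There are only finitely many maximal points in a Noetherian sober space. -/
theorem finite_generic [QuasiSober G] [NoetherianSpace G] : {p : G | ∀ z : G, z ⤳ p → z = p}.Finite := by
  have hfin : (irreducibleComponents G).Finite := NoetherianSpace.finite_irreducibleComponents
  have : Finite (irreducibleComponents G) := hfin
  choose ζ hζ using fun Z : irreducibleComponents G =>
    QuasiSober.sober Z.2.1 (isClosed_of_mem_irreducibleComponents _ Z.2)
  refine (Set.finite_range ζ).subset ?_
  intro p hp
  refine ⟨⟨irreducibleComponent p, irreducibleComponent_mem_irreducibleComponents p⟩, ?_⟩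
  exact hp _ ((hζ ⟨irreducibleComponent p, irreducibleComponent_mem_irreducibleComponents p⟩).specializes
    mem_irreducibleComponent)

end Groth.Agent.Etdl.H118.TopFin
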